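import Cfsg.Agent.Fusion.Criterion.Connect

/-!
Saturation criterion, second part: the maximal members of the class are fully automized and
receptive.
-/

set_option autoImplicit false
set_option linter.style.haveILetI false
set_option linter.unusedSectionVars false

namespace Cfsg.Lib.Fusion.Criterion

open Cfsg Cfsg.FusionSystem Cfsg.Lib.Fusion Cfsg.Lib.Fusion.Small

universe u

variable {Ω : Type u} [Group Ω] {S : Subgroup Ω} {F : FusionSystem S} {p : ℕ}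

/-- `O_p(Aut_F(P))`. -/
def opAut (F : FusionSystem S) (p : ℕ) (P : Subgroup Ω) : Subgroup (MulAut P) :=
  (pCore p (F.autGroup P)).map (F.autGroup P).subtype

theorem opAut_le (P : Subgroup Ω) : opAut F p P ≤ F.autGroup P := Subgroup.map_subtype_le _

theorem isPGroup_opAut [Finite S] [Fact p.Prime] {P : Subgroup Ω} (hP : P ≤ S) :
    IsPGroup p (opAut F p P) :=
  haveI := finite_of_le hP
  (Cfsg.Lib.Components.isPGroup_pCore p).map _

theorem conj_map_normal {G : Type*} [Group G] (A : Subgroup G) (N : Subgroup A) [N.Normal]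
    {a b : G} (ha : a ∈ A) (hb : b ∈ N.map A.subtype) : a * b * a⁻¹ ∈ N.map A.subtype := by
  obtain ⟨c, hc, rfl⟩ := hb
  exact ⟨⟨a, ha⟩ * c * ⟨a, ha⟩⁻¹, Subgroup.Normal.conj_mem inferInstance c hc _, rfl⟩

theorem opAut_normal [Finite S] [Fact p.Prime] {P : Subgroup Ω} (hP : P ≤ S) {α β : MulAut P}
    (hα : α ∈ F.autGroup P) (hβ : β ∈ opAut F p P) : α * β * α⁻¹ ∈ opAut F p P := by
  haveI := finite_of_le hP
  haveI := Cfsg.Lib.Components.pCore_normal' (G := F.autGroup P) p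
  exact conj_map_normal (F.autGroup P) (pCore p (F.autGroup P)) hα hβ

theorem le_opAut {P : Subgroup Ω} {K : Subgroup (MulAut P)} (hK : K ≤ F.autGroup P)
    (hKp : IsPGroup p K) (hKn : ∀ α ∈ F.autGroup P, ∀ β ∈ K, α * β * α⁻¹ ∈ K) :
    K ≤ opAut F p P := fun β hβ => by
  have hsub : K.subgroupOf (F.autGroup P) ≤ pCore p (F.autGroup P) :=
    le_sSup ⟨⟨fun b hb α => hKn α α.2 b hb⟩, hKp.of_injective
      (Subgroup.subgroupOfEquivOfLe hK).toMonoidHom (Subgroup.subgroupOfEquivOfLe hK).injective⟩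
  exact ⟨⟨β, hK hβ⟩, hsub hβ, rfl⟩

theorem inn_le_opAut [Finite S] [Fact p.Prime] (hS : IsPGroup p S) {P : Subgroup Ω} (hP : P ≤ S) :
    Inn P ≤ opAut F p P :=
  le_opAut (inn_le_autGroup hP)
    ((hS.of_injective _ (Subgroup.inclusion_injective hP)).of_surjective _
      (MulAut.conj (G := P)).rangeRestrict_surjective)
    fun α _ _ hβ => conj_mem_inn hβ α

theorem congr_opAut [Finite S] [Fact p.Prime] {P Q : Subgroup Ω} {f : Ω → Ω} (hf : IsMap F P f)
    (hi : img P f = Q) {β : MulAut P} (hβ : β ∈ opAut F p P) :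
    MulAut.congr (hf.equiv hi) β ∈ opAut F p Q := by
  haveI := finite_of_le hf.le
  have hle : (opAut F p P).map (MulAut.congr (hf.equiv hi)).toMonoidHom ≤ opAut F p Q := by
    refine le_opAut ?_ ((isPGroup_opAut hf.le).map _) fun α hα _ hb => ?_
    · rw [← map_congr_autGroup hf hi]
      exact Subgroup.map_mono (opAut_le P)
    · obtain ⟨b, hb, rfl⟩ := hb
      rw [← map_congr_autGroup hf hi] at hα
      obtain ⟨a, ha, rfl⟩ := hα
      exact ⟨a * b * a⁻¹, opAut_normal hf.le ha hb, by simp [map_mul, map_inv]⟩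
  exact hle ⟨β, hβ, rfl⟩

/-- The elements of `N_S(P)` acting within `O_p(Aut_F(P))`. -/
def radN (F : FusionSystem S) (p : ℕ) (P : Subgroup Ω) : Subgroup Ω :=
  ((opAut F p P).comap (normalizerInHom S P)).map (normalizerIn S P).subtype

theorem mem_radN {P : Subgroup Ω} {g : Ω} :
    g ∈ radN F p P ↔ ∃ hg : g ∈ normalizerIn S P, normalizerInHom S P ⟨g, hg⟩ ∈ opAut F p P := by
  constructor
  · rintro ⟨⟨g', hg'⟩, h, rfl⟩
    exact ⟨hg', h⟩
  · rintro ⟨hg, h⟩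
    exact ⟨⟨g, hg⟩, h, rfl⟩

theorem radN_le (P : Subgroup Ω) : radN F p P ≤ normalizerIn S P := Subgroup.map_subtype_le _

theorem le_radN [Finite S] [Fact p.Prime] (hS : IsPGroup p S) {P : Subgroup Ω} (hP : P ≤ S) :
    P ≤ radN F p P := fun x hx => mem_radN.mpr ⟨le_normalizerIn hP hx, inn_le_opAut hS hP
      ⟨⟨x, hx⟩, MulEquiv.ext fun y => Subtype.ext (by rw [normalizerInHom_apply]; rfl)⟩⟩

theorem normalizer_radN [Finite S] [Fact p.Prime] {P : Subgroup Ω} (hP : P ≤ S) :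
    normalizerIn S P ≤ Subgroup.normalizer ((radN F p P : Subgroup Ω) : Set Ω) := by
  intro s hs
  haveI : Finite (radN F p P) := finite_of_le ((radN_le P).trans inf_le_left)
  refine mem_normalizer_of_maps_finite fun g hg => ?_
  obtain ⟨hg', hk⟩ := mem_radN.mp hg
  refine mem_radN.mpr ⟨Subgroup.mul_mem _ (Subgroup.mul_mem _ hs hg') (Subgroup.inv_mem _ hs), ?_⟩
  have e : (⟨s * g * s⁻¹, Subgroup.mul_mem _ (Subgroup.mul_mem _ hs hg') (Subgroup.inv_mem _ hs)⟩ :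
      normalizerIn S P) = ⟨s, hs⟩ * ⟨g, hg'⟩ * ⟨s, hs⟩⁻¹ := rfl
  rw [e, map_mul, map_mul, map_inv]
  exact opAut_normal hP
    (autInducedBy_le hP (range_normalizerInHom (S := S) P ▸ ⟨⟨s, hs⟩, rfl⟩)) hk

/-- Maps carry `radN` into `radN`. -/
theorem map_mem_radN [Finite S] [Fact p.Prime] {P Q T : Subgroup Ω} {f : Ω → Ω}
    (hf : IsMap F T f) (hPT : P ≤ T) (hi : img P f = Q) {g : Ω} (hgT : g ∈ T)
    (hg : g ∈ radN F p P) : f g ∈ radN F p Q := by
  obtain ⟨hg', hk⟩ := mem_radN.mp hg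
  have hfg : f g ∈ normalizerIn S Q := hi ▸ hf.mem_normalizerIn hPT hgT hg'.2
  refine mem_radN.mpr ⟨hfg, ?_⟩
  have hfP := hf.mono hPT
  haveI := finite_of_le hfP.le
  have e : normalizerInHom S Q ⟨f g, hfg⟩ =
      MulAut.congr (hfP.equiv hi) (normalizerInHom S P ⟨g, hg'⟩) := by
    refine MulEquiv.ext fun y => Subtype.ext ?_
    obtain ⟨x, hx, hxy⟩ := hfP.mem_img.mp (show (y : Ω) ∈ img P f by rw [hi]; exact y.2)
    rw [normalizerInHom_apply, ← autFun_apply (MulAut.congr (hfP.equiv hi) _) y, ← hxy,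
      congr_equiv_spec hfP hi _ hx, autFun_apply_mem _ hx, normalizerInHom_apply]
    exact (hf.map_conj hgT (hPT hx)).symm
  rw [e]
  exact congr_opAut hfP hi hk

/-- An automorphism of `P` extending to `radN`. -/
def GMap (F : FusionSystem S) (p : ℕ) (P : Subgroup Ω) (f : Ω → Ω) : Prop :=
  IsMap F P f ∧ img P f = P ∧ ∃ g, IsMap F (radN F p P) g ∧ ∀ x ∈ P, g x = f x

theorem GMap.congr {P : Subgroup Ω} {f f' : Ω → Ω} (h : GMap F p P f)
    (e : ∀ x ∈ P, f' x = f x) : GMap F p P f' := by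
  obtain ⟨hf, hi, g, hg, hge⟩ := h
  exact ⟨hf.congr e, (img_congr e).trans hi, g, hg, fun x hx => (hge x hx).trans (e x hx).symm⟩

theorem gmap_maps [Finite S] [Fact p.Prime] (hS : IsPGroup p S) {P : Subgroup Ω} {f g : Ω → Ω}
    (hf : IsMap F P f) (hi : img P f = P) (hg : IsMap F (radN F p P) g)
    (he : ∀ x ∈ P, g x = f x) : img (radN F p P) g = radN F p P := by
  haveI : Finite (radN F p P) := finite_of_le hg.le
  exact Subgroup.eq_of_le_of_card_ge (IsMap.img_le_iff.mpr fun l hl =>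
    map_mem_radN hg (le_radN hS hf.le) ((img_congr he).trans hi) hl hl) hg.card_img.ge

theorem GMap.comp [Finite S] [Fact p.Prime] (hS : IsPGroup p S) {P : Subgroup Ω} {f f' : Ω → Ω}
    (h : GMap F p P f) (h' : GMap F p P f') : GMap F p P (f' ∘ f) := by
  obtain ⟨hf, hi, g, hg, hge⟩ := h
  obtain ⟨hf', hi', g', hg', hge'⟩ := h'
  have hmem : ∀ x ∈ P, f x ∈ P := fun x hx => hi.le (IsMap.apply_mem_img hx)
  have hL := gmap_maps hS hf hi hg hge
  refine ⟨hf.comp hf' hmem, ?_, g' ∘ g, hg.comp hg' fun l hl => hL.le (IsMap.apply_mem_img hl),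
    fun x hx => ?_⟩
  · rw [img_comp hf (hi.symm ▸ hf'), hi, hi']
  · show g' (g x) = f' (f x)
    rw [hge x hx, hge' _ (hmem x hx)]

theorem GMap.inv [Finite S] [Fact p.Prime] (hS : IsPGroup p S) {P : Subgroup Ω} {f f' : Ω → Ω}
    (h : GMap F p P f) (hl : ∀ x ∈ P, f' (f x) = x) : GMap F p P f' := by
  obtain ⟨hf, hi, g, hg, hge⟩ := h
  obtain ⟨g', hg', -, hgl, -⟩ := hg.exists_inv
  rw [gmap_maps hS hf hi hg hge] at hg'
  have hPL := le_radN (F := F) hS hf.le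
  have e : ∀ y ∈ P, f' y = g' y := fun y hy => by
    obtain ⟨x, hx, rfl⟩ := hf.mem_img.mp (hi.symm ▸ hy)
    rw [hl x hx, ← hge x hx, hgl x (hPL hx)]
  have hf' : IsMap F P f' := (hg'.mono hPL).congr e
  haveI := finite_of_le hf.le
  refine ⟨hf', Subgroup.eq_of_le_of_card_ge (IsMap.img_le_iff.mpr fun y hy => ?_) hf'.card_img.ge,
    g', hg', fun y hy => (e y hy).symm⟩
  obtain ⟨x, hx, rfl⟩ := hf.mem_img.mp (hi.symm ▸ hy)
  rwa [hl x hx]

/-- Restriction from the stabilizer of `A` to automorphisms of `A`. -/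
noncomputable def resHom (F : FusionSystem S) {R A : Subgroup Ω} [Finite R] (hA : A ≤ R) :
    stabAut F R A A hA hA →* MulAut A where
  toFun β :=
    { toFun := fun x => ⟨autFun (β : MulAut R) x, β.2.2.1 _ x.2⟩
      invFun := fun x => ⟨autFun (β : MulAut R)⁻¹ x,
        ((stabAut F R A A hA hA).inv_mem β.2).2.1 _ x.2⟩
      left_inv := fun x => Subtype.ext (autFun_inv_left (β : MulAut R) (hA x.2))
      right_inv := fun x => Subtype.ext (autFun_inv_apply (β : MulAut R) (hA x.2))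
      map_mul' := fun x y => Subtype.ext (by
        show autFun (β : MulAut R) ((x : Ω) * y) = autFun (β : MulAut R) x * autFun (β : MulAut R) y
        rw [autFun_apply_mem _ (hA x.2), autFun_apply_mem _ (hA y.2),
          autFun_apply_mem _ (R.mul_mem (hA x.2) (hA y.2))]
        exact congrArg Subtype.val
          (map_mul (β : MulAut R) (⟨x, hA x.2⟩ : R) ⟨y, hA y.2⟩)) }
  map_one' := MulEquiv.ext fun x => Subtype.ext (autFun_one (hA x.2))
  map_mul' β γ := MulEquiv.ext fun x => Subtype.ext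
    (autFun_mul (β : MulAut R) (γ : MulAut R) (hA x.2))

theorem autFun_resHom {R A : Subgroup Ω} [Finite R] {hA : A ≤ R} (β : stabAut F R A A hA hA)
    {x : Ω} (hx : x ∈ A) : autFun (resHom F hA β) x = autFun (β : MulAut R) x := by
  rw [autFun_apply_mem _ hx]; rfl

theorem resHom_mem {R A : Subgroup Ω} [Finite R] {hA : A ≤ R} (hR : R ≤ S)
    (β : stabAut F R A A hA hA) : resHom F hA β ∈ F.autGroup A :=
  (isMap_autFun (hA.trans hR)).mp
    ((((isMap_autFun hR).mpr β.2.1).mono hA).congr fun _ hx => autFun_resHom β hx)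

/-- The induced automorphisms in the stabilizer. -/
def indStab (F : FusionSystem S) {R A : Subgroup Ω} [Finite R] (hA : A ≤ R) :
    Subgroup (stabAut F R A A hA hA) :=
  (autInducedBy S R).subgroupOf (stabAut F R A A hA hA)

/-- In a placed position the induced automorphisms give a Sylow subgroup of every normal subgroup. -/
theorem exists_sylow_inf [Finite S] [Fact p.Prime] (hS : IsPGroup p S) {R A : Subgroup Ω} [Finite R]
    {hA : A ≤ R} (hpl : Placed F p R A hA) (N : Subgroup (stabAut F R A A hA hA)) [N.Normal] :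
    ∃ V : Sylow p N, (V : Subgroup N).map N.subtype = indStab F hA ⊓ N := by
  have hWp : IsPGroup p (indStab F hA) :=
    (isPGroup_autInducedBy hS R).comap_of_injective _ (Subgroup.subtype_injective _)
  set W₀ : Subgroup N := (indStab F hA).subgroupOf N
  have hW₀ : IsPGroup p W₀ := hWp.comap_of_injective _ (Subgroup.subtype_injective _)
  obtain ⟨V, hV⟩ := hW₀.exists_le_sylow
  let ι : N →* MulAut R := (stabAut F R A A hA hA).subtype.comp N.subtype
  obtain ⟨η, hη, hηV⟩ := hpl ((V : Subgroup N).map ι) (V.2.map ι) (by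
    rintro _ ⟨v, -, rfl⟩; exact (v : stabAut F R A A hA hA).2)
  have hcard : Nat.card (V : Subgroup N) ≤ Nat.card W₀ :=
    Nat.card_le_card_of_injective
      (fun v => (⟨⟨(⟨η, hη⟩ : stabAut F R A A hA hA) * (v : N) * (⟨η, hη⟩ : stabAut F R A A hA hA)⁻¹,
        Subgroup.Normal.conj_mem inferInstance _ (v : N).2 _⟩,
          hηV _ ⟨v, v.2, rfl⟩⟩ : W₀))
      fun v w e => Subtype.ext (Subtype.ext (by
        have := congrArg (fun z : W₀ => ((z : N) : stabAut F R A A hA hA)) e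
        simpa using this))
  refine ⟨V, ?_⟩
  rw [← Subgroup.eq_of_le_of_card_ge hV hcard, Subgroup.subgroupOf_map_subtype]

/-- A restriction of a map on a subgroup above `P` is in `GMap`. -/
theorem gmap_of_edge [Finite S] [Fact p.Prime] (hS : IsPGroup p S) {P : Subgroup Ω}
    (hbig : GoodAbove F p (Nat.card P)) (hto : ∀ Q, F.IsConj P Q → Full F Q P) (k : ℕ) :
    ∀ (R : Subgroup Ω) (ψ : Ω → Ω), Nat.card S - Nat.card R = k → P < R →
      R ≤ normalizerIn S P → IsMap F R ψ → img P ψ = P → GMap F p P ψ := by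
  induction k using Nat.strong_induction_on with
  | _ k ih =>
  intro R ψ hk hlt hR hψ hψP
  have hψ₀ : IsMap F P ψ := hψ.mono hlt.le
  have hP : P ≤ S := hψ₀.le
  set L := radN F p P
  by_cases hLR : L ≤ R
  · exact ⟨hψ₀, hψP, ψ, hψ.mono hLR, fun _ _ => rfl⟩
  set R₂ := img R ψ
  obtain ⟨ψ', hψ', hψ'i, hψ'l, -⟩ := hψ.exists_inv
  have hPR₂ : P ≤ R₂ := hψP.ge.trans (img_mono hlt.le ψ)
  by_cases hLR₂ : L ≤ R₂
  · have hback : img P ψ' = P := by
      conv_lhs => rw [← hψP]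
      rw [← img_comp hψ₀ (hψ'.mono (img_mono hlt.le ψ))]
      exact (img_congr fun x hx => hψ'l x (hlt.le hx)).trans (img_id P)
    have hg : GMap F p P ψ' := ⟨hψ'.mono hPR₂, hback, ψ', hψ'.mono hLR₂, fun _ _ => rfl⟩
    refine hg.inv hS fun y hy => ?_
    obtain ⟨x, hx, rfl⟩ := hψ₀.mem_img.mp (hψP.symm ▸ hy)
    rw [hψ'l x (hlt.le hx)]
  have hLN : L ≤ normalizerIn S P := radN_le P
  have hne : R ≠ normalizerIn S P := fun e => hLR (e ▸ hLN)
  have hR₂ : R₂ ≤ normalizerIn S P := IsMap.img_le_iff.mpr fun x hx =>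
    hψP ▸ hψ.mem_normalizerIn hlt.le hx (hR hx).2
  have hne₂ : R₂ ≠ normalizerIn S P := fun e => hLR₂ (e ▸ hLN)
  haveI := finite_of_le hψ.le
  obtain ⟨Rs, hRRs, hfa, hrec⟩ := hbig R hψ.le (lt_of_le_of_ne (Subgroup.card_le_of_le hlt.le)
    fun e => hlt.ne (Subgroup.eq_of_le_of_card_ge hlt.le e.ge))
  haveI := finite_of_le hfa.1
  obtain ⟨As, hAs, ρ₁, ρ₂, hpl, hρ₁, hρ₂, hρ₁P, hρ₂P, hρ₁R, hρ₂R, ν, hν, hνe⟩ :=
    exists_detour hS hlt.le hR hψ hRRs hfa hrec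
  rw [hψP] at hρ₂ hρ₂P
  have hAsS : As ≤ S := hAs.trans hfa.1
  haveI := finite_of_le hAsS
  set M₁ := normalizerIn S P ⊓ Subgroup.normalizer (R : Set Ω)
  have hRM₁ : R ≤ M₁ := le_inf hR Subgroup.le_normalizer
  have hPM₁ : P ≤ M₁ := hlt.le.trans hRM₁
  have hR₂M : R₂ ≤ normalizerIn S P ⊓ Subgroup.normalizer (R₂ : Set Ω) :=
    le_inf hR₂ Subgroup.le_normalizer
  have hconj : F.IsConj P As := isConj_iff.mpr ⟨ρ₁, hρ₁.mono hPM₁, hρ₁P⟩
  obtain ⟨h, hh, hhi⟩ := hto As hconj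
  have hhmem := full_mem hAsS hh hhi
  have hhA : IsMap F As h := hh.mono (le_normalizerIn hAsS)
  obtain ⟨h', hh', hh'i, hh'l, -⟩ := hhA.exists_inv
  rw [hhi] at hh' hh'i
  have hh'mem : ∀ x ∈ P, h' x ∈ As := fun x hx => hh'i ▸ IsMap.apply_mem_img hx
  -- bigger domains are done
  have hbigger : ∀ (T : Subgroup Ω) (ρ : Ω → Ω), P ≤ T → T ≤ normalizerIn S P → IsMap F T ρ →
      img P ρ = As → Nat.card R < Nat.card T → GMap F p P (h ∘ ρ) := by
    intro T ρ hPT hT hρ hρP hcard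
    have hmem : ∀ x ∈ T, ρ x ∈ normalizerIn S As := fun x hx =>
      hρP ▸ hρ.mem_normalizerIn hPT hx (hT hx).2
    have hc : IsMap F T (h ∘ ρ) := hρ.comp hh hmem
    have he : img P (h ∘ ρ) = P := by
      rw [img_comp (hρ.mono hPT) (hρP.symm ▸ hhA), hρP, hhi]
    have hTS := Subgroup.card_le_of_le hρ.le
    have hPT' : P < T := lt_of_le_of_ne hPT fun e => by
      have := Subgroup.card_le_of_le hlt.le
      rw [← e] at hcard
      omega
    exact ih (Nat.card S - Nat.card T) (by omega) T (h ∘ ρ) rfl hPT' hT hc he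
  have hu₁ : GMap F p P (h ∘ ρ₁) :=
    hbigger M₁ ρ₁ hPM₁ inf_le_left hρ₁ hρ₁P (lt_norm_norm hS hR hne)
  have hu₂ : GMap F p P (h ∘ ρ₂) := hbigger _ ρ₂ (hPR₂.trans hR₂M) inf_le_left hρ₂ hρ₂P
    (by rw [← hψ.card_img]; exact lt_norm_norm hS hR₂ hne₂)
  -- an element of `L` outside `R`
  have hRnL : R ≤ Subgroup.normalizer ((L : Subgroup Ω) : Set Ω) :=
    hR.trans (normalizer_radN hP)
  have hlt' : R < R ⊔ L := lt_of_le_of_ne le_sup_left fun e => hLR (e.symm ▸ le_sup_right)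
  obtain ⟨v, hv, hvR⟩ := SetLike.exists_of_lt
    (lt_inf_normalizer hS hlt' (sup_le hψ.le (hLN.trans inf_le_left)))
  have hv1 : v ∈ ((R ⊔ L : Subgroup Ω) : Set Ω) := hv.1
  rw [Subgroup.coe_mul_of_left_le_normalizer_right R L hRnL] at hv1
  obtain ⟨r, hr, l, hl, rfl⟩ := hv1
  have hlM : l ∈ M₁ := ⟨hLN hl, by
    have := Subgroup.mul_mem _ (Subgroup.inv_mem _ (Subgroup.le_normalizer hr)) hv.2
    rwa [inv_mul_cancel_left] at this⟩
  have hlR : l ∉ R := fun hlR => hvR (R.mul_mem hr hlR)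
  set y := ρ₁ l
  have hyA : y ∈ radN F p As := map_mem_radN hρ₁ hPM₁ hρ₁P hlM hl
  have hyN : y ∈ normalizerIn S Rs := hρ₁R ▸ hρ₁.mem_normalizerIn hRM₁ hlM hlM.2
  have hyR : y ∉ Rs := fun hy => by
    rw [← hρ₁R] at hy
    obtain ⟨x, hx, e⟩ := (hρ₁.mono hRM₁).mem_img.mp hy
    exact hlR (hρ₁.injOn (hRM₁ hx) hlM e ▸ hx)
  obtain ⟨hyA', hyK⟩ := mem_radN.mp hyA
  -- inside the stabilizer
  set cy := conjAut Rs y hyN.2
  have hcy : cy ∈ stabAut F Rs As As hAs hAs := by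
    have hc : ∀ x ∈ As, autFun cy x ∈ As := fun x hx => by
      rw [autFun_apply_mem _ (hAs hx), conjAut_apply hyN.2]
      exact conj_mem_of_mem_normalizer hyA'.2 hx
    exact ⟨autInducedBy_le hfa.1 (conjAut_mem_autInducedBy hyN.2 hyN.1), hc, hc⟩
  set K₀ := (opAut F p As).comap (resHom F hAs)
  haveI hK₀n : K₀.Normal := ⟨fun b hb g => by
    show resHom F hAs (g * b * g⁻¹) ∈ opAut F p As
    rw [map_mul, map_mul, map_inv]
    exact opAut_normal hAsS (resHom_mem hfa.1 g) hb⟩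
  have hcyK : (⟨cy, hcy⟩ : stabAut F Rs As As hAs hAs) ∈ indStab F hAs ⊓ K₀ := by
    refine ⟨conjAut_mem_autInducedBy hyN.2 hyN.1, ?_⟩
    show resHom F hAs _ ∈ opAut F p As
    convert hyK using 1
    refine MulEquiv.ext fun x => Subtype.ext ?_
    rw [← autFun_apply, autFun_resHom _ x.2, normalizerInHom_apply, autFun_apply_mem _ (hAs x.2),
      conjAut_apply]
  obtain ⟨V, hV⟩ := exists_sylow_inf hS hpl K₀
  have hsup : (⟨ν, hν⟩ : stabAut F Rs As As hAs hAs) ∈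
      Subgroup.normalizer ((indStab F hAs ⊓ K₀ : Subgroup (stabAut F Rs As As hAs hAs)) :
        Set (stabAut F Rs As As hAs hAs)) ⊔ K₀ := by
    haveI : Finite (MulAut Rs) :=
      Finite.of_injective (fun f : MulAut Rs => (f : Rs → Rs)) DFunLike.coe_injective
    rw [← hV, Sylow.normalizer_sup_eq_top V]
    exact Subgroup.mem_top _
  obtain ⟨ν₁, hν₁, κ, hκ, hνκ⟩ := Subgroup.mem_sup_of_normal_right.mp hsup
  -- `κ` acts on `As` as an element of the Sylow subgroup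
  obtain ⟨w, hw, hwκ⟩ : ∃ w ∈ indStab F hAs ⊓ K₀, resHom F hAs w = resHom F hAs κ := by
    set res₀ := (resHom F hAs).comp K₀.subtype
    haveI : Finite (MulAut Rs) :=
      Finite.of_injective (fun f : MulAut Rs => (f : Rs → Rs)) DFunLike.coe_injective
    have hp : IsPGroup p res₀.range :=
      (isPGroup_opAut hAsS).of_injective (Subgroup.inclusion fun x (hx : x ∈ res₀.range) => by obtain ⟨b, rfl⟩ := hx; exact b.2)
        (Subgroup.inclusion_injective _)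
    have htop : ((V.mapSurjective res₀.rangeRestrict_surjective : Sylow p res₀.range) :
        Subgroup res₀.range) = ⊤ :=
      ((V.mapSurjective res₀.rangeRestrict_surjective).is_maximal'
        (hp.to_subgroup ⊤) le_top).symm
    obtain ⟨v, hv, e⟩ := htop.ge (Subgroup.mem_top (⟨res₀ ⟨κ, hκ⟩, ⟨κ, hκ⟩, rfl⟩ : res₀.range))
    exact ⟨v, hV ▸ ⟨v, hv, rfl⟩, congrArg Subtype.val e⟩
  -- the middle automorphisms
  let mid : stabAut F Rs As As hAs hAs → Ω → Ω := fun β x => h (autFun (β : MulAut Rs) (h' x))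
  have hmw : GMap F p P (mid w) := by
    obtain ⟨s, hs, es⟩ := mem_autInducedBy.mp hw.1
    haveI := finite_of_le hAsS
    have hes : ∀ x ∈ As, autFun (w : MulAut Rs) x = s * x * s⁻¹ := fun x hx =>
      (autFun_apply_mem _ (hAs hx)).trans (es ⟨x, hAs hx⟩)
    have hsA : s ∈ normalizerIn S As := ⟨hs, mem_normalizer_of_maps_finite fun x hx =>
      hes x hx ▸ w.2.2.1 x hx⟩
    have e : ∀ x ∈ P, mid w x = h s * x * (h s)⁻¹ := fun x hx => by
      show h (autFun (w : MulAut Rs) (h' x)) = _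
      rw [hes _ (hh'mem x hx), hh.map_conj hsA (le_normalizerIn hAsS (hh'mem x hx))]
      congr 2
      obtain ⟨z, hz, rfl⟩ := hhA.mem_img.mp (hhi.symm ▸ hx)
      rw [hh'l z hz]
    refine GMap.congr ⟨isMap_conj hP (hhmem s hsA).1, ?_, _,
      isMap_conj (hLN.trans inf_le_left) (hhmem s hsA).1, fun _ _ => rfl⟩ e
    haveI := finite_of_le hP
    exact Subgroup.eq_of_le_of_card_ge (IsMap.img_le_iff.mpr fun x hx =>
      conj_mem_of_mem_normalizer (hhmem s hsA).2 hx)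
      (isMap_conj (F := F) hP (hhmem s hsA).1).card_img.ge
  have hmν₁ : GMap F p P (mid ν₁) := by
    have hm : IsMap F Rs (autFun (ν₁ : MulAut Rs)) := (isMap_autFun hfa.1).mpr ν₁.2.1
    obtain ⟨e, he, hee⟩ := receptive_extend hrec hm (img_autFun _)
    set T := extSub S Rs (autFun (ν₁ : MulAut Rs)) ⊓ Subgroup.normalizer (As : Set Ω)
    have hRsA : Rs ≤ Subgroup.normalizer (As : Set Ω) := fun z hz => by
      rw [← hρ₁R] at hz
      obtain ⟨x, hx, rfl⟩ := (hρ₁.mono hRM₁).mem_img.mp hz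
      exact (hρ₁P ▸ hρ₁.mem_normalizerIn hPM₁ (hRM₁ hx) (hR hx).2 :
        ρ₁ x ∈ normalizerIn S As).2
    have hyT : y ∈ T := by
      refine ⟨?_, hyA'.2⟩
      have hmem := (Subgroup.mem_normalizer_iff.mp hν₁ _).mp hcyK
      obtain ⟨t, ht, et⟩ := mem_autInducedBy.mp hmem.1
      refine ⟨hyN.1, hyN.2, t, ht, fun x hx => ?_⟩
      have h1 := et ⟨autFun (ν₁ : MulAut Rs) x, autFun_mem _ hx⟩
      rw [← autFun_apply] at h1
      rw [map_mul, map_mul, map_inv] at h1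
      simp only [Subgroup.coe_subtype] at h1
      rw [← h1, autFun_mul _ _ (autFun_mem _ hx), autFun_inv_left _ hx, autFun_mul _ _ hx,
        autFun_apply_mem cy hx, conjAut_apply]
    have hRT : Rs ≤ T := le_inf (le_extSub hm) hRsA
    have hT : T ≤ normalizerIn S As := fun z hz => ⟨((extSub_le _ _) hz.1).1, hz.2⟩
    have hAT : As ≤ T := hAs.trans hRT
    have heA : img As e = As := by
      refine Subgroup.eq_of_le_of_card_ge (IsMap.img_le_iff.mpr fun x hx => ?_) ?_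
      · rw [hee x (hAs hx)]; exact ν₁.2.2.1 x hx
      · rw [(he.mono (hAT.trans inf_le_left)).card_img]
    have hemem : ∀ t ∈ T, e t ∈ normalizerIn S As := fun t ht =>
      heA ▸ (he.mono inf_le_left).mem_normalizerIn hAT ht ht.2
    have hhT : IsMap F T h := hh.mono hT
    obtain ⟨k', hk', hk'i, hk'l, -⟩ := hhT.exists_inv
    have hk'mem : ∀ z ∈ img T h, k' z ∈ T := fun z hz => hk'i ▸ IsMap.apply_mem_img hz
    have hc : IsMap F (img T h) (h ∘ e ∘ k') :=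
      (hk'.comp (he.mono inf_le_left) hk'mem).comp hh fun z hz => hemem _ (hk'mem z hz)
    have hPT : P ≤ img T h := hhi.ge.trans (img_mono hAT h)
    have hval : ∀ x ∈ P, (h ∘ e ∘ k') x = mid ν₁ x := fun x hx => by
      obtain ⟨z, hz, rfl⟩ := hhA.mem_img.mp (hhi.symm ▸ hx)
      show h (e (k' (h z))) = h (autFun (ν₁ : MulAut Rs) (h' (h z)))
      rw [hk'l z (hAT hz), hh'l z hz, hee z (hAs hz)]
    have hTS : img T h ≤ normalizerIn S P := IsMap.img_le_iff.mpr fun z hz => hhmem z (hT hz)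
    have hcard : Nat.card R < Nat.card ↥(img T h) := by
      haveI : Finite T := finite_of_le hhT.le
      rw [hhT.card_img, ← isConj_card hRRs]
      exact lt_of_le_of_ne (Subgroup.card_le_of_le hRT) fun e' =>
        hyR ((Subgroup.eq_of_le_of_card_ge hRT e'.ge).ge hyT)
    have hT' := Subgroup.card_le_of_le hc.le
    have hmem : ∀ x ∈ P, (h ∘ e ∘ k') x ∈ P := fun x hx => by
      rw [hval x hx]
      exact hhi ▸ IsMap.apply_mem_img (ν₁.2.2.1 _ (hh'mem x hx))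
    haveI := finite_of_le hP
    refine GMap.congr (ih (Nat.card S - Nat.card (img T h)) (by omega) (img T h) _ rfl
      (lt_of_le_of_ne hPT fun e' => ?_) hTS hc
      (Subgroup.eq_of_le_of_card_ge (IsMap.img_le_iff.mpr hmem) (hc.mono hPT).card_img.ge))
      fun x hx => (hval x hx).symm
    have := Subgroup.card_le_of_le hlt.le
    rw [← e'] at hcard
    omega
  -- assemble
  obtain ⟨k₂, hk₂, -, hk₂l, -⟩ := hu₂.1.exists_inv
  rw [hu₂.2.1] at hk₂
  refine (((hu₁.comp hS hmw).comp hS hmν₁).comp hS (hu₂.inv hS hk₂l)).congr fun x hx => ?_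
  show ψ x = k₂ (mid ν₁ (mid w (h (ρ₁ x))))
  have hz : ρ₁ x ∈ As := hρ₁P ▸ IsMap.apply_mem_img hx
  have e1 : mid w (h (ρ₁ x)) = h (autFun (w : MulAut Rs) (ρ₁ x)) := by
    show h (autFun (w : MulAut Rs) (h' (h (ρ₁ x)))) = _
    rw [hh'l _ hz]
  have e2 : mid ν₁ (h (autFun (w : MulAut Rs) (ρ₁ x))) =
      h (autFun (ν₁ : MulAut Rs) (autFun (w : MulAut Rs) (ρ₁ x))) := by
    show h (autFun (ν₁ : MulAut Rs) (h' (h _))) = _
    rw [hh'l _ (w.2.2.1 _ hz)]
  have e3 : autFun (w : MulAut Rs) (ρ₁ x) = autFun (κ : MulAut Rs) (ρ₁ x) := by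
    rw [← autFun_resHom w hz, hwκ, autFun_resHom κ hz]
  have e4 : ρ₂ (ψ x) = autFun (ν₁ : MulAut Rs) (autFun (κ : MulAut Rs) (ρ₁ x)) := by
    rw [hνe x (hlt.le hx), ← autFun_mul _ _ (hAs hz)]
    exact congrArg (fun b : stabAut F Rs As As hAs hAs => autFun (b : MulAut Rs) (ρ₁ x)) hνκ.symm
  rw [e1, e2, e3, ← e4]
  exact (hk₂l (ψ x) (hψP ▸ IsMap.apply_mem_img hx)).symm

/-- The maps between members, read at `P`. -/
def Gen₂ (F : FusionSystem S) (p : ℕ) (P T : Subgroup Ω) (f : Ω → Ω) : Prop :=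
  ∀ Q, Q ≤ T → F.IsConj P Q → ∀ h₁ k₁ h₂ : Ω → Ω, IsMap F (normalizerIn S Q) h₁ → img Q h₁ = P →
    (∀ x ∈ Q, k₁ (h₁ x) = x) → IsMap F (normalizerIn S (img Q f)) h₂ →
    img (img Q f) h₂ = P → GMap F p P (fun z => h₂ (f (k₁ z)))

theorem gen₂_step [Finite S] [Fact p.Prime] (hS : IsPGroup p S) {P : Subgroup Ω}
    (hbig : GoodAbove F p (Nat.card P)) (hto : ∀ Q, F.IsConj P Q → Full F Q P)
    {Q T : Subgroup Ω} {f : Ω → Ω} (hf : IsMap F T f) (hlt : Q < T) (hQ : F.IsConj P Q)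
    {h₁ k₁ h₂ : Ω → Ω} (hh₁ : IsMap F (normalizerIn S Q) h₁) (hh₁i : img Q h₁ = P)
    (hk₁ : ∀ x ∈ Q, k₁ (h₁ x) = x) (hh₂ : IsMap F (normalizerIn S (img Q f)) h₂)
    (hh₂i : img (img Q f) h₂ = P) : GMap F p P (fun z => h₂ (f (k₁ z))) := by
  have hQS : Q ≤ S := (isConj_le hQ).2
  set R := T ⊓ Subgroup.normalizer (Q : Set Ω)
  have hQR : Q < R := lt_inf_normalizer hS hlt hf.le
  have hRN : R ≤ normalizerIn S Q := fun x hx => ⟨hf.le hx.1, hx.2⟩
  have hh₁R : IsMap F R h₁ := hh₁.mono hRN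
  obtain ⟨g', hg', hg'i, hg'l, -⟩ := hh₁R.exists_inv
  have hfR : IsMap F R f := hf.mono inf_le_left
  have hfmem : ∀ x ∈ R, f x ∈ normalizerIn S (img Q f) := fun x hx =>
    hfR.mem_normalizerIn hQR.le hx (hRN hx).2
  have hg'mem : ∀ y ∈ img R h₁, g' y ∈ R := fun y hy => hg'i ▸ IsMap.apply_mem_img hy
  have hψ : IsMap F (img R h₁) (h₂ ∘ f ∘ g') :=
    (hg'.comp hfR hg'mem).comp hh₂ fun y hy => hfmem _ (hg'mem y hy)
  have hψP : img P (h₂ ∘ f ∘ g') = P := by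
    conv_lhs => rw [← hh₁i]
    rw [← img_comp (hh₁R.mono hQR.le) (hψ.mono (img_mono hQR.le h₁))]
    conv_rhs => rw [← hh₂i]
    rw [← img_comp (hfR.mono hQR.le) (hh₂.mono (le_normalizerIn (hfR.mono hQR.le).img_le))]
    exact img_congr fun x hx => by
      show h₂ (f (g' (h₁ x))) = h₂ (f x)
      rw [hg'l x (hQR.le hx)]
  have hPR : P < img R h₁ := by
    haveI := finite_of_le hh₁R.img_le
    haveI := finite_of_le hh₁R.le
    refine lt_of_le_of_ne (hh₁i ▸ img_mono hQR.le h₁) fun e => hQR.ne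
      (Subgroup.eq_of_le_of_card_ge hQR.le ?_)
    rw [← (hh₁R.mono hQR.le).card_img, hh₁i, e, hh₁R.card_img]
  refine (gmap_of_edge hS hbig hto _ _ _ rfl hPR (IsMap.img_le_iff.mpr fun x hx =>
    full_mem hQS hh₁ hh₁i x (hRN hx)) hψ hψP).congr fun z hz => ?_
  obtain ⟨x, hx, rfl⟩ := (hh₁R.mono hQR.le).mem_img.mp (hh₁i.symm ▸ hz)
  show h₂ (f (k₁ (h₁ x))) = h₂ (f (g' (h₁ x)))
  rw [hk₁ x hx, hg'l x (hQR.le hx)]

theorem isMapClass_gen₂ [Finite S] [Fact p.Prime] (hS : IsPGroup p S) {P : Subgroup Ω}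
    (hlt : Nat.card P < Nat.card S) (hbig : GoodAbove F p (Nat.card P))
    (hto : ∀ Q, F.IsConj P Q → Full F Q P) : IsMapClass F (Gen₂ F p P) where
  conj T g hT hg Q hQT hQ h₁ k₁ h₂ hh₁ hh₁i hk₁ hh₂ hh₂i := by
    have hQS : Q < S := lt_of_le_of_ne (hQT.trans hT) fun e => by
      have := isConj_card hQ
      subst e
      omega
    exact gen₂_step hS hbig hto (isMap_conj le_rfl hg) hQS hQ hh₁ hh₁i hk₁ hh₂ hh₂i
  congr T f f' _ e h Q hQT hQ h₁ k₁ h₂ hh₁ hh₁i hk₁ hh₂ hh₂i := by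
    have ei := img_congr fun x hx => e x (hQT hx)
    rw [ei] at hh₂ hh₂i
    refine (h Q hQT hQ h₁ k₁ h₂ hh₁ hh₁i hk₁ hh₂ hh₂i).congr fun z hz => ?_
    obtain ⟨x, hx, rfl⟩ := (hh₁.mono (le_normalizerIn (isConj_le hQ).2)).mem_img.mp (hh₁i.symm ▸ hz)
    show h₂ (f' (k₁ (h₁ x))) = h₂ (f (k₁ (h₁ x)))
    rw [hk₁ x hx, e x (hQT hx)]
  mono T R f _ hR h Q hQR := h Q (hQR.trans hR)
  comp T T' f g hf hg hfT h h' Q hQT hQ h₁ k₁ h₂ hh₁ hh₁i hk₁ hh₂ hh₂i := by
    have hfQ : IsMap F Q f := hf.mono hQT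
    have hle : img Q f ≤ T' := IsMap.img_le_iff.mpr fun x hx => hfT x (hQT hx)
    rw [img_comp hfQ (hg.mono hle)] at hh₂ hh₂i
    have hQ' : F.IsConj P (img Q f) := isConj_trans hQ (isConj_iff.mpr ⟨f, hfQ, rfl⟩)
    obtain ⟨h₀, hh₀, hh₀i⟩ := hto _ hQ'
    have hh₀Q := hh₀.mono (le_normalizerIn hfQ.img_le)
    obtain ⟨k₀, -, -, hk₀, -⟩ := hh₀Q.exists_inv
    refine ((h Q hQT hQ h₁ k₁ h₀ hh₁ hh₁i hk₁ hh₀ hh₀i).comp hS
      (h' _ hle hQ' h₀ k₀ h₂ hh₀ hh₀i hk₀ hh₂ hh₂i)).congr fun z hz => ?_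
    obtain ⟨x, hx, rfl⟩ := (hh₁.mono (le_normalizerIn hfQ.le)).mem_img.mp (hh₁i.symm ▸ hz)
    show h₂ (g (f (k₁ (h₁ x)))) = h₂ (g (k₀ (h₀ (f (k₁ (h₁ x))))))
    rw [hk₁ x hx, hk₀ _ (IsMap.apply_mem_img hx)]
  inv T f g hf hg hl h Q hQT hQ h₁ k₁ h₂ hh₁ hh₁i hk₁ hh₂ hh₂i := by
    have hgQ : IsMap F Q g := hg.mono hQT
    have hfg : ∀ y ∈ Q, f (g y) = y := fun y hy => by
      obtain ⟨x, hx, rfl⟩ := hf.mem_img.mp (hQT hy)
      rw [hl x hx]
    have hle : img Q g ≤ T := IsMap.img_le_iff.mpr fun y hy => by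
      obtain ⟨x, hx, rfl⟩ := hf.mem_img.mp (hQT hy)
      rwa [hl x hx]
    have hback : img (img Q g) f = Q := by
      rw [← img_comp hgQ (hf.mono hle)]
      exact (img_congr hfg).trans (img_id Q)
    have hQ' : F.IsConj P (img Q g) := isConj_trans hQ (isConj_iff.mpr ⟨g, hgQ, rfl⟩)
    obtain ⟨k₂, -, -, hk₂, -⟩ := (hh₂.mono (le_normalizerIn hgQ.img_le)).exists_inv
    have hG := h _ hle hQ' h₂ k₂ h₁ hh₂ hh₂i hk₂ (hback.symm ▸ hh₁) (hback.symm ▸ hh₁i)
    refine hG.inv hS fun z hz => ?_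
    obtain ⟨w, hw, rfl⟩ := (hh₂.mono (le_normalizerIn hgQ.img_le)).mem_img.mp (hh₂i.symm ▸ hz)
    obtain ⟨x, hx, rfl⟩ := hgQ.mem_img.mp hw
    show h₂ (g (k₁ (h₁ (f (k₂ (h₂ (g x))))))) = h₂ (g x)
    rw [hk₂ _ (IsMap.apply_mem_img hx), hfg x hx, hk₁ x hx]

/-- Every automorphism of `P` extends to `radN`. -/
theorem gmap_of_aut [Finite S] [Fact p.Prime] (hS : IsPGroup p S) {ℋ : Set (Subgroup Ω)}
    (hℋconj : ∀ Q ∈ ℋ, ∀ R, F.IsConj Q R → R ∈ ℋ)
    (hgen : ∀ E : FusionSystem S, (∀ Q ∈ ℋ, F.Hom Q ⊆ E.Hom Q) → F ≤ E) {P : Subgroup Ω}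
    (hP : P ≤ S) (hPℋ : P ∉ ℋ) (hlt : Nat.card P < Nat.card S)
    (hbig : GoodAbove F p (Nat.card P)) (hto : ∀ Q, F.IsConj P Q → Full F Q P) {f : Ω → Ω}
    (hf : IsMap F P f) (hi : img P f = P) : GMap F p P f := by
  have hall := class_of_generates (isMapClass_gen₂ hS hlt hbig hto) hgen
    (fun T g hT hg Q hQT hQ h₁ k₁ h₂ hh₁ hh₁i hk₁ hh₂ hh₂i => gen₂_step hS hbig hto hg
      (lt_of_le_of_ne hQT fun e => hPℋ (hℋconj T hT P (isConj_symm (e ▸ hQ))))
      hQ hh₁ hh₁i hk₁ hh₂ hh₂i) hf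
  exact hall P le_rfl (isConj_refl hP) id id id (isMap_id inf_le_left) (img_id P)
    (fun _ _ => rfl) (isMap_id inf_le_left) ((img_id _).trans hi)

end Cfsg.Lib.Fusion.Criterion
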