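import Cfsg.Agent.Fusion.Criterion.Site

/-!
Saturation from the saturation of the classes in a generating family.
-/

set_option autoImplicit false
set_option linter.style.haveILetI false
set_option linter.unusedSectionVars false

namespace Cfsg.Lib.Fusion.Criterion

open Cfsg Cfsg.FusionSystem Cfsg.Lib.Fusion Cfsg.Lib.Fusion.Small

universe u

variable {Ω : Type u} [Group Ω] {S : Subgroup Ω} {F : FusionSystem S} {p : ℕ}

theorem mem_normalizer_radN_of [Finite S] [Fact p.Prime] {P : Subgroup Ω} (hP : P ≤ S) {g : Ω}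
    (hg : g ∈ normalizerIn S P) : g ∈ normalizerIn S (radN F p P) :=
  ⟨hg.1, normalizer_radN hP hg⟩

/-- A placed pair gives full automization. -/
theorem fullyAutomized_of_gmap [Finite S] [Fact p.Prime] (hS : IsPGroup p S) {P : Subgroup Ω}
    [Finite (radN F p P)] (hP : P ≤ S) (hPL : P ≤ radN F p P)
    (hpl : Placed F p (radN F p P) P hPL)
    (hall : ∀ f : Ω → Ω, IsMap F P f → img P f = P → GMap F p P f) :
    F.IsFullyAutomized p P := by
  haveI := finite_of_le hP
  haveI : Finite (MulAut (radN F p P)) := Finite.of_injective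
    (fun f : MulAut (radN F p P) => (f : radN F p P → radN F p P)) DFunLike.coe_injective
  have hL : radN F p P ≤ S := (radN_le P).trans inf_le_left
  set res := (resHom F hPL).codRestrict (F.autGroup P) (resHom_mem hL)
  have hsurj : Function.Surjective res := by
    rintro ⟨α, hα⟩
    have hm := (isMap_autFun hP).mpr hα
    obtain ⟨g, hg, hge⟩ := (hall _ hm (img_autFun α)).2.2
    obtain ⟨a, ha, hae⟩ := hg.exists_aut (gmap_maps hS hm (img_autFun α) hg hge)
    have hst : ∀ x ∈ P, autFun a x ∈ P := fun x hx => by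
      rw [hae x (hPL hx), hge x hx]; exact autFun_mem α hx
    refine ⟨⟨a, ha, hst, hst⟩, Subtype.ext (autFun_eq_of_eq' fun x hx => ?_)⟩
    show autFun (resHom F hPL ⟨a, ha, hst, hst⟩) x = autFun α x
    rw [autFun_resHom _ hx]
    exact (hae x (hPL hx)).trans (hge x hx)
  obtain ⟨V, hV⟩ := exists_sylow_inf hS hpl ⊤
  let V' : Sylow p (stabAut F (radN F p P) P P hPL hPL) :=
    (V.mapSurjective (f := (⊤ : Subgroup (stabAut F (radN F p P) P P hPL hPL)).subtype)
      fun x => ⟨⟨x, trivial⟩, rfl⟩)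
  have hV' : (V' : Subgroup _) = indStab F hPL := by
    show V.toSubgroup.map _ = _
    rw [hV, inf_top_eq]
  let R : Sylow p (F.autGroup P) := V'.mapSurjective hsurj
  refine ⟨hP, R, (R.is_maximal' ?_ ?_).symm⟩
  · exact (isPGroup_autInducedBy hS P).comap_of_injective _ (Subgroup.subtype_injective _)
  · rintro _ ⟨β, hβ, rfl⟩
    rw [hV'] at hβ
    obtain ⟨s, hs, es⟩ := mem_autInducedBy.mp hβ
    refine mem_autInducedBy.mpr ⟨s, hs, fun x => ?_⟩
    show ((resHom F hPL β x : P) : Ω) = _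
    rw [← autFun_apply, autFun_resHom _ x.2, autFun_apply_mem _ (hPL x.2)]
    exact es _
where
  autFun_eq_of_eq' {Q : Subgroup Ω} {α β : MulAut Q} (h : ∀ x ∈ Q, autFun α x = autFun β x) :
      α = β :=
    MulEquiv.ext fun x => Subtype.ext (by rw [← autFun_apply α x, ← autFun_apply β x, h x x.2])

/-- A placed pair gives receptivity. -/
theorem receptive_of_gmap [Finite S] [Fact p.Prime] (hS : IsPGroup p S) {P : Subgroup Ω}
    [Finite (radN F p P)] (hP : P ≤ S) (hPL : P ≤ radN F p P)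
    (hpl : Placed F p (radN F p P) P hPL) (hrecL : F.IsReceptive (radN F p P))
    (hto : ∀ Q, F.IsConj P Q → Full F Q P)
    (hall : ∀ f : Ω → Ω, IsMap F P f → img P f = P → GMap F p P f) :
    F.IsReceptive P := by
  haveI := finite_of_le hP
  haveI : Finite (MulAut (radN F p P)) := Finite.of_injective
    (fun f : MulAut (radN F p P) => (f : radN F p P → radN F p P)) DFunLike.coe_injective
  have hL : radN F p P ≤ S := hrecL.1
  refine receptive_of_extend hP fun Q φ hφ hφi => ?_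
  have hQ : Q ≤ S := hφ.le
  obtain ⟨h, hh, hhi⟩ := hto Q (isConj_symm (isConj_iff.mpr ⟨φ, hφ, hφi⟩))
  have hhQ : IsMap F Q h := hh.mono (le_normalizerIn hQ)
  obtain ⟨h', hh', hh'i, hh'l, -⟩ := hhQ.exists_inv
  rw [hhi] at hh' hh'i
  have hh'mem : ∀ z ∈ P, h' z ∈ Q := fun z hz => hh'i ▸ IsMap.apply_mem_img hz
  set f := φ ∘ h'
  have hf : IsMap F P f := hh'.comp hφ hh'mem
  have hfi : img P f = P := by
    rw [img_comp hh' (hh'i.symm ▸ hφ), hh'i, hφi]
  obtain ⟨-, -, g, hg, hge⟩ := hall f hf hfi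
  obtain ⟨a, ha, hae⟩ := hg.exists_aut (gmap_maps hS hf hfi hg hge)
  have hst : ∀ x ∈ P, autFun a x ∈ P := fun x hx => by
    rw [hae x (hPL hx), hge x hx]; exact hfi.le (IsMap.apply_mem_img hx)
  set A : stabAut F (radN F p P) P P hPL hPL := ⟨a, ha, hst, hst⟩
  set T := extSub S Q φ
  have hTN : T ≤ normalizerIn S Q := extSub_le Q φ
  -- the elements of `h(T)` as automorphisms of `radN`
  have hhT : ∀ t ∈ T, h t ∈ normalizerIn S P := fun t ht => full_mem hQ hh hhi t (hTN ht)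
  let N' := img T h
  have hN' : N' ≤ normalizerIn S P := IsMap.img_le_iff.mpr hhT
  have hN'L : N' ≤ normalizerIn S (radN F p P) := fun z hz => mem_normalizer_radN_of hP (hN' hz)
  let u : N' →* MulAut (radN F p P) :=
    (normalizerInHom S (radN F p P)).comp (Subgroup.inclusion hN'L)
  have hu : ∀ z : N', u z ∈ stabAut F (radN F p P) P P hPL hPL := fun z => by
    have hc : ∀ x ∈ P, autFun (u z) x ∈ P := fun x hx => by
      rw [autFun_apply_mem _ (hPL hx)]
      exact conj_mem_of_mem_normalizer (hN' z.2).2 hx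
    exact ⟨autInducedBy_le hL (range_normalizerInHom (S := S) (radN F p P) ▸ ⟨_, rfl⟩), hc, hc⟩
  let u' := u.codRestrict _ hu
  have huW : ∀ z, u' z ∈ indStab F hPL := fun z => by
    show u z ∈ autInducedBy S (radN F p P)
    rw [← range_normalizerInHom]
    exact ⟨_, rfl⟩
  set K₁ := (resHom F hPL).ker
  set H := K₁ ⊔ indStab F hPL
  have hX : ∀ z, A * u' z * A⁻¹ ∈ H := by
    intro z
    obtain ⟨t, ht, hte⟩ := (hh.mono hTN).mem_img.mp z.2
    obtain ⟨htS, htn, s, hs, es⟩ := ht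
    have hsN : s ∈ normalizerIn S P := by
      refine ⟨hs, mem_normalizer_of_maps_finite fun y hy => ?_⟩
      obtain ⟨x, hx, rfl⟩ := hφ.mem_img.mp (hφi.ge hy)
      rw [← es x hx]
      exact hφi.le (IsMap.apply_mem_img (conj_mem_of_mem_normalizer htn hx))
    set c := conjAut (radN F p P) s (normalizer_radN hP hsN)
    have hc : ∀ x ∈ P, autFun c x ∈ P := fun x hx => by
      rw [autFun_apply_mem _ (hPL hx), conjAut_apply]
      exact conj_mem_of_mem_normalizer hsN.2 hx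
    have hcS : c ∈ autInducedBy S (radN F p P) := conjAut_mem_autInducedBy _ hs
    set C : stabAut F (radN F p P) P P hPL hPL := ⟨c, autInducedBy_le hL hcS, hc, hc⟩
    have hker : A * u' z * A⁻¹ * C⁻¹ ∈ K₁ := by
      rw [MonoidHom.mem_ker, map_mul, map_inv, mul_inv_eq_one, map_mul, map_mul, map_inv,
        mul_inv_eq_iff_eq_mul]
      refine MulEquiv.ext fun x => Subtype.ext ?_
      rw [← autFun_apply, ← autFun_apply, autFun_mul _ _ x.2, autFun_mul _ _ x.2]
      have hu1 : autFun (resHom F hPL (u' z)) x = h t * x * (h t)⁻¹ := by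
        rw [autFun_resHom _ x.2, autFun_apply_mem _ (hPL x.2)]
        show (z : Ω) * x * (z : Ω)⁻¹ = _
        rw [hte]
      have hA1 : ∀ y ∈ P, autFun (resHom F hPL A) y = φ (h' y) := fun y hy => by
        rw [autFun_resHom _ hy]
        exact (hae y (hPL hy)).trans (hge y hy)
      rw [hA1 _ (autFun_mem _ x.2), hu1, hA1 _ x.2]
      have hC1 : autFun (resHom F hPL C) (φ (h' x)) = s * φ (h' x) * s⁻¹ := by
        have hmem : φ (h' x) ∈ P := hφi.le (IsMap.apply_mem_img (hh'mem x x.2))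
        rw [autFun_resHom _ hmem, autFun_apply_mem _ (hPL hmem)]
        exact conjAut_apply _ _
      rw [hC1]
      obtain ⟨q, hq, hqe⟩ := hhQ.mem_img.mp (show (x : Ω) ∈ img Q h by rw [hhi]; exact x.2)
      have hq' : t * q * t⁻¹ ∈ Q := conj_mem_of_mem_normalizer htn hq
      rw [← hqe, ← hh.map_conj ⟨htS, htn⟩ (le_normalizerIn hQ hq), hh'l _ hq', hh'l _ hq, es q hq]
    have := Subgroup.mul_mem_sup hker (show C ∈ indStab F hPL from hcS)
    rwa [inv_mul_cancel_right] at this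
  -- conjugate into the induced automorphisms
  obtain ⟨κ, hκ, hκX⟩ : ∃ κ ∈ K₁, ∀ z, κ * (A * u' z * A⁻¹) * κ⁻¹ ∈ indStab F hPL := by
    let X : N' →* H := ((MulAut.conj A).toMonoidHom.comp u').codRestrict H hX
    have hXp : IsPGroup p X.range :=
      (hS.of_injective _ (Subgroup.inclusion_injective (hN'.trans inf_le_left))).of_surjective _
        X.rangeRestrict_surjective
    obtain ⟨V, hV⟩ := exists_sylow_inf hS hpl ⊤
    have hWp : IsPGroup p (indStab F hPL) :=
      (isPGroup_autInducedBy hS _).comap_of_injective _ (Subgroup.subtype_injective _)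
    have hWmax : ∀ U : Subgroup (stabAut F (radN F p P) P P hPL hPL), IsPGroup p U →
        indStab F hPL ≤ U → U = indStab F hPL := fun U hU hle => by
      let V' := V.mapSurjective (f := (⊤ : Subgroup (stabAut F (radN F p P) P P hPL hPL)).subtype)
        fun x => ⟨⟨x, trivial⟩, rfl⟩
      have hV' : (V' : Subgroup (stabAut F (radN F p P) P P hPL hPL)) = indStab F hPL := by
        show V.toSubgroup.map _ = _
        rw [hV, inf_top_eq]
      exact (V'.is_maximal' hU (hV'.le.trans hle)).trans hV'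
    have hWH : IsPGroup p ((indStab F hPL).subgroupOf H) :=
      hWp.comap_of_injective _ (Subgroup.subtype_injective _)
    obtain ⟨V₁, hV₁⟩ := hWH.exists_le_sylow
    have hV₁' : (V₁ : Subgroup H) = (indStab F hPL).subgroupOf H := by
      refine le_antisymm (fun v hv => ?_) hV₁
      have h1 := hWmax ((V₁ : Subgroup H).map H.subtype) (V₁.2.map _) fun w hw =>
        ⟨⟨w, Subgroup.mem_sup_right hw⟩, hV₁ hw, rfl⟩
      exact h1.le ⟨v, hv, rfl⟩
    obtain ⟨V₂, hV₂⟩ := hXp.exists_le_sylow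
    obtain ⟨η, hη⟩ := MulAction.exists_smul_eq H V₂ V₁
    have hηX : ∀ z, (η : stabAut F (radN F p P) P P hPL hPL) * (A * u' z * A⁻¹) * (η : stabAut F (radN F p P) P P hPL hPL)⁻¹ ∈ indStab F hPL := by
      intro z
      have h1 : η * X z * η⁻¹ ∈ ((η • V₂ : Sylow p H) : Subgroup H) := ⟨X z, hV₂ ⟨z, rfl⟩, rfl⟩
      rw [hη, hV₁'] at h1
      exact h1
    obtain ⟨k, hk, w, hw, hkw⟩ := Subgroup.mem_sup_of_normal_left.mp η.2
    refine ⟨w⁻¹ * k * w, ?_, fun z => ?_⟩
    · have h3 := (MonoidHom.normal_ker (resHom F hPL)).conj_mem k hk w⁻¹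
      rwa [inv_inv] at h3
    · have h2 := Subgroup.mul_mem _ (Subgroup.mul_mem _ (Subgroup.inv_mem _ hw) (hηX z)) hw
      convert h2 using 1
      rw [← hkw]
      group
  -- extend
  set b : MulAut (radN F p P) := ((κ * A : stabAut F (radN F p P) P P hPL hPL) : MulAut (radN F p P))
  have hb : b ∈ F.autGroup (radN F p P) := (κ * A).2.1
  have hbm := (isMap_autFun hL).mpr hb
  obtain ⟨e, he, hee⟩ := receptive_extend hrecL hbm (img_autFun b)
  have hext : ∀ t ∈ T, h t ∈ extSub S (radN F p P) (autFun b) := fun t ht => by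
    obtain ⟨s, hs, es⟩ := mem_autInducedBy.mp (hκX ⟨h t, IsMap.apply_mem_img ht⟩)
    have hn := mem_normalizer_radN_of (F := F) (p := p) hP (hhT t ht)
    refine ⟨hn.1, hn.2, s, hs, fun x hx => ?_⟩
    have h1 := es ⟨autFun b x, autFun_mem b hx⟩
    rw [← autFun_apply] at h1
    have h2 : (stabAut F (radN F p P) P P hPL hPL).subtype
        (κ * (A * u' ⟨h t, IsMap.apply_mem_img ht⟩ * A⁻¹) * κ⁻¹) =
        b * u ⟨h t, IsMap.apply_mem_img ht⟩ * b⁻¹ := by
      simp only [b, Subgroup.coe_subtype, Subgroup.coe_mul, Subgroup.coe_inv]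
      show ((κ : MulAut _) * ((A : MulAut _) * u ⟨h t, _⟩ * (A : MulAut _)⁻¹) * (κ : MulAut _)⁻¹) = _
      group
    rw [h2] at h1
    rw [← h1, autFun_mul _ _ (autFun_mem b hx), autFun_inv_left b hx, autFun_mul _ _ hx,
      autFun_apply_mem (u ⟨h t, _⟩) hx]
    rfl
  refine ⟨e ∘ h, (hh.mono hTN).comp he hext, fun x hx => ?_⟩
  have hhx : h x ∈ P := hhi.le (IsMap.apply_mem_img hx)
  show e (h x) = φ x
  rw [hee _ (hPL hhx)]
  show autFun ((κ : MulAut (radN F p P)) * a) (h x) = φ x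
  rw [autFun_mul _ _ (hPL hhx)]
  have hκ1 : ∀ y ∈ P, autFun (κ : MulAut (radN F p P)) y = y := fun y hy => by
    rw [← autFun_resHom κ hy, MonoidHom.mem_ker.mp hκ, autFun_one hy]
  rw [hκ1 _ (hst _ hhx), hae _ (hPL hhx), hge _ hhx]
  show φ (h' (h x)) = φ x
  rw [hh'l x hx]

/-- A class outside the family. -/
theorem exists_member [Finite S] [Fact p.Prime] (hS : IsPGroup p S) {ℋ : Set (Subgroup Ω)}
    (hℋconj : ∀ P ∈ ℋ, ∀ Q, F.IsConj P Q → Q ∈ ℋ)
    (hgen : ∀ E : FusionSystem S, (∀ P ∈ ℋ, F.Hom P ⊆ E.Hom P) → F ≤ E)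
    (hstar : ∀ P : Subgroup Ω, F.IsCentric P → P ∉ ℋ → ∃ Q, F.IsConj P Q ∧
      ¬ (autInducedBy S Q ⊓ (pCore p (F.autGroup Q)).map (F.autGroup Q).subtype ≤ Inn Q))
    {P₀ : Subgroup Ω} (hP₀ : P₀ ≤ S) (hP₀ℋ : P₀ ∉ ℋ) (hbig : GoodAbove F p (Nat.card P₀)) :
    ∃ Q, F.IsConj P₀ Q ∧ F.IsFullyAutomized p Q ∧ F.IsReceptive Q := by
  haveI := finite_of_le hP₀
  have hlt : Nat.card P₀ < Nat.card S := by
    refine lt_of_le_of_ne (Subgroup.card_le_of_le hP₀) fun e => ?_
    obtain rfl := Subgroup.eq_of_le_of_card_ge hP₀ e.ge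
    have hc : F.IsCentric P₀ := ⟨le_rfl, fun Q hQ =>
      inf_le_left.trans (Subgroup.eq_of_le_of_card_ge (isConj_le hQ).2 (isConj_card hQ).ge).ge⟩
    obtain ⟨Q, hQ, hn⟩ := hstar P₀ hc hP₀ℋ
    obtain rfl : Q = P₀ := Subgroup.eq_of_le_of_card_ge (isConj_le hQ).2 (isConj_card hQ).ge
    refine hn fun β hβ => ?_
    obtain ⟨g, hg, eg⟩ := mem_autInducedBy.mp hβ.1
    exact ⟨⟨g, hg⟩, MulEquiv.ext fun x => Subtype.ext (eg x).symm⟩
  obtain ⟨P, hPfull, hPt⟩ := exists_terminal (F := F) hP₀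
  have hcP : F.IsConj P₀ P := full_isConj hP₀ hPfull
  have hP : P ≤ S := (isConj_le hcP).2
  haveI := finite_of_le hP
  have hto : ∀ Q, F.IsConj P₀ Q → Full F Q P := fun Q hQ =>
    full_to_terminal hS hℋconj hgen hP₀ℋ hlt hbig hQ hcP hPt
  have hcard := isConj_card hcP
  -- `radN` is larger
  obtain ⟨l, hl, hlP⟩ : ∃ l ∈ radN F p P, l ∉ P := by
    obtain ⟨Q, hQ, g, hg, hgQ⟩ : ∃ Q, F.IsConj P₀ Q ∧ ∃ g, g ∈ radN F p Q ∧ g ∉ Q := by
      by_cases hc : F.IsCentric P₀
      · obtain ⟨Q, hQ, hn⟩ := hstar P₀ hc hP₀ℋ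
        obtain ⟨β, ⟨hβS, hβK⟩, hβI⟩ := SetLike.not_le_iff_exists.mp hn
        obtain ⟨g, hg, eg⟩ := mem_autInducedBy.mp hβS
        have hgN : g ∈ normalizerIn S Q := ⟨hg, mem_normalizer_of_mem_autInducedBy eg⟩
        have e : normalizerInHom S Q ⟨g, hgN⟩ = β :=
          MulEquiv.ext fun x => Subtype.ext ((normalizerInHom_apply Q _ x).trans (eg x).symm)
        exact ⟨Q, hQ, g, mem_radN.mpr ⟨hgN, e ▸ hβK⟩,
          fun hgQ => hβI ⟨⟨g, hgQ⟩, MulEquiv.ext fun x => Subtype.ext (eg x).symm⟩⟩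
      · simp only [FusionSystem.IsCentric, hP₀, true_and, not_forall] at hc
        obtain ⟨Q, hQ, hCQ⟩ := hc
        obtain ⟨y, hy, hyQ⟩ := SetLike.not_le_iff_exists.mp hCQ
        have hyN : y ∈ normalizerIn S Q := centralizerIn_le_normalizerIn Q hy
        have e : normalizerInHom S Q ⟨y, hyN⟩ = 1 := MulEquiv.ext fun x => Subtype.ext
          ((normalizerInHom_apply Q _ x).trans ((mem_centralizerIn.mp hy).2 x x.2))
        exact ⟨Q, hQ, y, mem_radN.mpr ⟨hyN, e.symm ▸ Subgroup.one_mem _⟩, hyQ⟩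
    obtain ⟨h, hh, hhi⟩ := hto Q hQ
    have hQN := le_normalizerIn (S := S) (isConj_le hQ).2
    have hgN := radN_le Q hg
    refine ⟨h g, map_mem_radN hh hQN hhi hgN hg, fun hgP => ?_⟩
    obtain ⟨x, hx, e⟩ := (hh.mono hQN).mem_img.mp (hhi.symm ▸ hgP)
    exact hgQ (hh.injOn (hQN hx) hgN e ▸ hx)
  set L := radN F p P
  have hPL : P ≤ L := le_radN hS hP
  have hLN : L ≤ normalizerIn S P := radN_le P
  have hLS : L ≤ S := hLN.trans inf_le_left
  haveI := finite_of_le hLS
  have hPLlt : Nat.card P₀ < Nat.card L := by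
    rw [← hcard]
    exact lt_of_le_of_ne (Subgroup.card_le_of_le hPL) fun e =>
      hlP ((Subgroup.eq_of_le_of_card_ge hPL e.ge).ge hl)
  obtain ⟨Ls, hLLs, hfa, hrec⟩ := hbig L hLS hPLlt
  haveI := finite_of_le hfa.1
  obtain ⟨c₀, hc₀, hc₀i⟩ := isConj_iff.mp hLLs
  obtain ⟨c, hc, hci, hpos⟩ := exists_sylow_position hPL hPL hc₀ hc₀i hfa
  have hP' : img P c ≤ Ls := hci ▸ img_mono hPL c
  have hpl : Placed F p Ls (img P c) hP' := fun U hU hUle => by
    obtain ⟨η, hη, h⟩ := hpos hP' hP' U hU hUle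
    exact ⟨η, hη, fun u hu => mem_autInducedBy.mpr (h u hu)⟩
  obtain ⟨η, hη, ρ, hρ, hρe⟩ := exists_corrected_on hS hP' hrec hpl hPL
    (fun x hx => mem_normalizer_radN_of hP hx) (fun x hx => hx.2) hc hci rfl
  set P' := img P ρ with hP'def
  have hρL : IsMap F L ρ := hρ.mono hLN
  have e1 : P' = img P c := by
    haveI : Finite (img P c) := finite_of_le (hP'.trans hfa.1)
    refine Subgroup.eq_of_le_of_card_ge (IsMap.img_le_iff.mpr fun x hx => ?_) ?_
    · rw [hρe x (hPL hx)]; exact hη.2.1 _ (IsMap.apply_mem_img hx)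
    · rw [(hc.mono hPL).card_img, hP'def, (hρL.mono hPL).card_img]
  have hfull : Full F P P' := ⟨ρ, hρ, rfl⟩
  have hcP' : F.IsConj P₀ P' := isConj_trans hcP (full_isConj hP hfull)
  have hP'S : P' ≤ S := (isConj_le hcP').2
  have hback : Full F P' P := full_symm hP hfull (hPt _ hfull)
  have hto' : ∀ Q, F.IsConj P' Q → Full F Q P' := fun Q hQ =>
    full_trans (isConj_le hQ).2 (hto Q (isConj_trans hcP' hQ)) hfull
  have hLs : Ls = radN F p P' := by
    have hle : Ls ≤ radN F p P' := by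
      intro y hy
      have hyi : y ∈ img L ρ := by
        have : img L ρ = Ls := by
          refine Subgroup.eq_of_le_of_card_ge (IsMap.img_le_iff.mpr fun x hx => ?_) ?_
          · rw [hρe x hx]; exact autFun_mem η (hci ▸ IsMap.apply_mem_img hx)
          · rw [hρL.card_img, ← hci, hc.card_img]
        rw [this]; exact hy
      obtain ⟨x, hx, rfl⟩ := hρL.mem_img.mp hyi
      exact map_mem_radN hρ (le_normalizerIn hP) rfl (hLN hx) hx
    haveI : Finite (radN F p P') := finite_of_le ((radN_le P').trans inf_le_left)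
    refine Subgroup.eq_of_le_of_card_ge hle ?_
    obtain ⟨k, hk, hki⟩ := hback
    rw [← hci, hc.card_img]
    exact card_le_of_isMap hk (radN_le P') hLS fun g hg =>
      map_mem_radN hk (le_normalizerIn hP'S) hki (radN_le P' hg) hg
  subst hLs
  have hpl' : Placed F p (radN F p P') P' (e1 ▸ hP') := by
    intro U hU hUle
    have hst : stabAut F (radN F p P') P' P' (e1 ▸ hP') (e1 ▸ hP') =
        stabAut F (radN F p P') (img P c) (img P c) hP' hP' := by
      ext β
      simp only [mem_stabAut, e1]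
    obtain ⟨θ, hθ, h⟩ := hpl U hU (hst ▸ hUle)
    exact ⟨θ, hst.symm ▸ hθ, h⟩
  have hcard' : Nat.card P' = Nat.card P₀ := isConj_card hcP'
  have hP'ℋ : P' ∉ ℋ := fun h => hP₀ℋ (hℋconj _ h _ (isConj_symm hcP'))
  have hall : ∀ f : Ω → Ω, IsMap F P' f → img P' f = P' → GMap F p P' f := fun f hf hi =>
    gmap_of_aut hS hℋconj hgen hP'S hP'ℋ (hcard'.symm ▸ hlt) (hcard'.symm ▸ hbig) hto' hf hi
  exact ⟨P', hcP', fullyAutomized_of_gmap hS hP'S _ hpl' hall,
    receptive_of_gmap hS hP'S _ hpl' hrec hto' hall⟩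

/-- The saturation criterion. -/
theorem saturated_of_family [Finite S] [Fact p.Prime] (hS : IsPGroup p S)
    {ℋ : Set (Subgroup Ω)} (hℋconj : ∀ P ∈ ℋ, ∀ Q, F.IsConj P Q → Q ∈ ℋ)
    (hsat : ∀ P ∈ ℋ, ∃ Q, F.IsConj P Q ∧ F.IsFullyAutomized p Q ∧ F.IsReceptive Q)
    (hgen : ∀ E : FusionSystem S, (∀ P ∈ ℋ, F.Hom P ⊆ E.Hom P) → F ≤ E)
    (hstar : ∀ P : Subgroup Ω, F.IsCentric P → P ∉ ℋ → ∃ Q, F.IsConj P Q ∧
      ¬ (autInducedBy S Q ⊓ (pCore p (F.autGroup Q)).map (F.autGroup Q).subtype ≤ Inn Q)) :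
    F.IsSaturated p := by
  suffices ∀ (k : ℕ) (P : Subgroup Ω), P ≤ S → Nat.card S - Nat.card P = k →
      ∃ Q, F.IsConj P Q ∧ F.IsFullyAutomized p Q ∧ F.IsReceptive Q from fun P hP => this _ P hP rfl
  intro k
  induction k using Nat.strong_induction_on with
  | _ k ih =>
  intro P hP hk
  by_cases hPℋ : P ∈ ℋ
  · exact hsat P hPℋ
  refine exists_member hS hℋconj hgen hstar hP hPℋ fun R hR hlt => ?_
  have := Subgroup.card_le_of_le hR
  exact ih (Nat.card S - Nat.card R) (by omega) R hR rfl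

end Cfsg.Lib.Fusion.Criterion
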