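import Cfsg.Agent.Fusion.Small.Restriction

/-!
Saturation criterion, first part: in a class outside the generating family, all members map with
their normalizers to any member with maximal normalizer.
-/

set_option autoImplicit false
set_option linter.style.haveILetI false
set_option linter.unusedSectionVars false

namespace Cfsg.Lib.Fusion.Criterion

open Cfsg Cfsg.FusionSystem Cfsg.Lib.Fusion Cfsg.Lib.Fusion.Small

universe u

variable {Ω : Type u} [Group Ω] {S : Subgroup Ω} {F : FusionSystem S} {p : ℕ}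

/-- The maps of a class form a system. -/
def classSystem (F : FusionSystem S) {Φ : Subgroup Ω → (Ω → Ω) → Prop} (hΦ : IsMapClass F Φ) :
    FusionSystem S where
  Hom P := {φ | φ ∈ F.Hom P ∧ Φ P (toFun' φ)}
  le_of_mem h := F.le_of_mem h.1
  injective_of_mem h := F.injective_of_mem h.1
  conj_mem {P g} hP hg := ⟨F.conj_mem hP hg, hΦ.congr P _ _ (isMap_conj hP hg)
    (fun x hx => by rw [toFun'_apply_mem _ hx]; rfl) (hΦ.conj P g hP hg)⟩
  comp_mem {P Q φ ψ} hφ hψ h := by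
    have hmem : ∀ x ∈ P, toFun' φ x ∈ Q := fun x hx => by
      rw [toFun'_apply_mem φ hx]; exact h ⟨x, hx⟩
    refine ⟨F.comp_mem hφ.1 hψ.1 h, hΦ.congr P _ _
      ((isMap_of_mem hφ.1).comp (isMap_of_mem hψ.1) hmem) (fun x hx => ?_)
      (hΦ.comp P Q _ _ (isMap_of_mem hφ.1) (isMap_of_mem hψ.1) hmem hφ.2 hψ.2)⟩
    rw [toFun'_apply_mem _ hx]
    show _ = toFun' ψ (toFun' φ x)
    rw [toFun'_apply_mem φ hx, toFun'_apply_mem ψ (h ⟨x, hx⟩)]
    rfl
  inv_mem {P φ} hφ := by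
    obtain ⟨ψ, hψ, hl⟩ := F.inv_mem hφ.1
    have hr : φ.range = img P (toFun' φ) :=
      (isMap_of_mem hφ.1).range_eq fun x => (toFun'_apply φ x).symm
    refine ⟨ψ, ⟨hψ, ?_⟩, hl⟩
    have hm : IsMap F (img P (toFun' φ)) (toFun' ψ) := hr ▸ isMap_of_mem hψ
    have := hΦ.inv P _ (toFun' ψ) (isMap_of_mem hφ.1) hm (fun x hx => by
      rw [toFun'_apply_mem φ hx, toFun'_apply_mem ψ ⟨⟨x, hx⟩, rfl⟩]
      exact hl ⟨x, hx⟩) hφ.2
    rwa [← hr] at this

theorem class_of_generates {Φ : Subgroup Ω → (Ω → Ω) → Prop} (hΦ : IsMapClass F Φ)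
    {ℋ : Set (Subgroup Ω)}
    (hgen : ∀ E : FusionSystem S, (∀ P ∈ ℋ, F.Hom P ⊆ E.Hom P) → F ≤ E)
    (hbase : ∀ (T : Subgroup Ω) (f : Ω → Ω), T ∈ ℋ → IsMap F T f → Φ T f)
    {P : Subgroup Ω} {f : Ω → Ω} (hf : IsMap F P f) : Φ P f := by
  obtain ⟨φ, hφ, e⟩ := hf
  have h := hgen (classSystem F hΦ) (fun T hT ψ hψ => ⟨hψ, hbase T _ hT (isMap_of_mem hψ)⟩) P hφ
  exact hΦ.congr P _ f (isMap_of_mem hφ) (fun x hx => by rw [toFun'_apply_mem φ hx]; exact (e ⟨x, hx⟩).symm) h.2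

/-- A map defined on the normalizer of `Q` carrying it onto `A`. -/
def Full (F : FusionSystem S) (Q A : Subgroup Ω) : Prop :=
  ∃ f, IsMap F (normalizerIn S Q) f ∧ img Q f = A

/-- No full map leads to a larger normalizer. -/
def Terminal (F : FusionSystem S) (A : Subgroup Ω) : Prop :=
  ∀ B, Full F A B → Nat.card (normalizerIn S B) ≤ Nat.card (normalizerIn S A)

theorem full_refl {Q : Subgroup Ω} : Full F Q Q := ⟨id, isMap_id inf_le_left, img_id Q⟩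

theorem full_mem {Q A : Subgroup Ω} {f : Ω → Ω} (hQ : Q ≤ S) (hf : IsMap F (normalizerIn S Q) f)
    (hi : img Q f = A) : ∀ t ∈ normalizerIn S Q, f t ∈ normalizerIn S A := fun t ht => by
  rw [← hi]
  exact hf.mem_normalizerIn (le_normalizerIn hQ) ht ht.2

theorem full_isConj {Q A : Subgroup Ω} (hQ : Q ≤ S) (h : Full F Q A) : F.IsConj Q A := by
  obtain ⟨f, hf, hi⟩ := h
  exact isConj_iff.mpr ⟨f, hf.mono (le_normalizerIn hQ), hi⟩

theorem full_trans {Q A B : Subgroup Ω} (hQ : Q ≤ S) (h : Full F Q A) (h' : Full F A B) :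
    Full F Q B := by
  obtain ⟨f, hf, hi⟩ := h
  obtain ⟨g, hg, hgi⟩ := h'
  refine ⟨g ∘ f, hf.comp hg (full_mem hQ hf hi), ?_⟩
  subst hi
  rw [img_comp (hf.mono (le_normalizerIn hQ))
    (hg.mono (le_normalizerIn ((hf.mono (le_normalizerIn hQ)).img_le))), hgi]

theorem card_le_of_full [Finite S] {Q A : Subgroup Ω} (hQ : Q ≤ S) (h : Full F Q A) :
    Nat.card (normalizerIn S Q) ≤ Nat.card (normalizerIn S A) := by
  obtain ⟨f, hf, hi⟩ := h
  exact card_le_of_isMap hf le_rfl inf_le_left (full_mem hQ hf hi)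

theorem full_symm [Finite S] {A B : Subgroup Ω} (hA : A ≤ S) (h : Full F A B)
    (hcard : Nat.card (normalizerIn S B) ≤ Nat.card (normalizerIn S A)) : Full F B A := by
  obtain ⟨f, hf, hi⟩ := h
  obtain ⟨g, hg, -, hgl, -⟩ := hf.exists_inv
  have himg : img (normalizerIn S A) f = normalizerIn S B := by
    haveI : Finite (normalizerIn S B) := finite_of_le inf_le_left
    exact Subgroup.eq_of_le_of_card_ge (IsMap.img_le_iff.mpr (full_mem hA hf hi))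
      (hcard.trans hf.card_img.ge)
  rw [himg] at hg
  refine ⟨g, hg, ?_⟩
  subst hi
  have hfA := hf.mono (le_normalizerIn hA)
  rw [← img_comp hfA (hg.mono (le_normalizerIn hfA.img_le))]
  exact (img_congr fun x hx => hgl x (le_normalizerIn hA hx)).trans (img_id A)

theorem exists_terminal [Finite S] {Q : Subgroup Ω} (hQ : Q ≤ S) :
    ∃ A, Full F Q A ∧ Terminal F A := by
  have hfin : {A : Subgroup Ω | Full F Q A}.Finite := finite_subgroups_le.subset fun A hA =>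
    (isConj_le (full_isConj hQ hA)).2
  obtain ⟨A, hA, hmax⟩ := hfin.exists_maximalFor (fun A => Nat.card (normalizerIn S A)) _
    ⟨Q, full_refl⟩
  refine ⟨A, hA, fun B hB => ?_⟩
  rcases le_total (Nat.card (normalizerIn S B)) (Nat.card (normalizerIn S A)) with h | h
  · exact h
  · exact hmax (full_trans hQ hA hB) h

/-- The larger classes have fully automized receptive members. -/
def GoodAbove (F : FusionSystem S) (p n : ℕ) : Prop :=
  ∀ R : Subgroup Ω, R ≤ S → n < Nat.card R →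
    ∃ R', F.IsConj R R' ∧ F.IsFullyAutomized p R' ∧ F.IsReceptive R'

/-- A map into a placed subgroup can be corrected to extend to any `p`-subgroup stabilizing. -/
theorem exists_corrected_on [Finite S] [Fact p.Prime] (hS : IsPGroup p S) {R Q X : Subgroup Ω}
    [Finite Q] (hXQ : X ≤ Q) (hrec : F.IsReceptive Q) (hpl : Placed F p Q X hXQ) {Y M : Subgroup Ω}
    (hY : Y ≤ R) (hM : M ≤ normalizerIn S R) (hMY : M ≤ Subgroup.normalizer (Y : Set Ω))
    {f₀ : Ω → Ω} (hf₀ : IsMap F R f₀) (hi : img R f₀ = Q) (hiY : img Y f₀ = X) :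
    ∃ η ∈ stabAut F Q X X hXQ hXQ, ∃ f, IsMap F M f ∧
      ∀ x ∈ R, f x = autFun η (f₀ x) := by
  let e := ((MulAut.congr (hf₀.equiv hi)).toMonoidHom.comp (normalizerInHom S R)).comp
    (Subgroup.inclusion hM)
  have hespec : ∀ (g : Ω) (hg : g ∈ M), ∀ x ∈ R,
      autFun (e ⟨g, hg⟩) (f₀ x) = f₀ (g * x * g⁻¹) := fun g hg x hx => by
    show autFun (MulAut.congr (hf₀.equiv hi) (normalizerInHom S R ⟨g, hM hg⟩)) (f₀ x) = _
    rw [congr_equiv_spec hf₀ hi _ hx, autFun_apply_mem _ hx]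
    rfl
  have hest : e.range ≤ stabAut F Q X X hXQ hXQ := by
    rintro _ ⟨⟨g, hg⟩, rfl⟩
    have h : ∀ x ∈ X, autFun (e ⟨g, hg⟩) x ∈ X := fun x hx => by
      obtain ⟨y, hy, rfl⟩ := (hf₀.mono hY).mem_img.mp (hiY.symm ▸ hx)
      rw [hespec g hg y (hY hy)]
      exact hiY ▸ IsMap.apply_mem_img (conj_mem_of_mem_normalizer (hMY hg) hy)
    exact ⟨congr_mem_autGroup hf₀ hi
      (autInducedBy_le hf₀.le (range_normalizerInHom (S := S) R ▸ ⟨⟨g, hM hg⟩, rfl⟩)), h, h⟩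
  have hep : IsPGroup p e.range :=
    (hS.of_injective _ (Subgroup.inclusion_injective (hM.trans inf_le_left))).of_surjective _
      e.rangeRestrict_surjective
  obtain ⟨η, hη, hηK⟩ := hpl _ hep hest
  have hQS : Q ≤ S := hrec.1
  have hmem : ∀ x ∈ R, f₀ x ∈ Q := fun x hx => hi ▸ IsMap.apply_mem_img hx
  have hf₁ : IsMap F R (autFun η ∘ f₀) := hf₀.comp ((isMap_autFun hQS).mpr hη.1) hmem
  have hi₁ : img R (autFun η ∘ f₀) = Q := by
    subst hi
    rw [img_comp hf₀ ((isMap_autFun hQS).mpr hη.1), img_autFun]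
  have hle : M ≤ extSub S R (autFun η ∘ f₀) := by
    intro g hg
    obtain ⟨h, hh, eh⟩ := mem_autInducedBy.mp (hηK (e ⟨g, hg⟩) ⟨⟨g, hg⟩, rfl⟩)
    refine ⟨(hM hg).1, (hM hg).2, h, hh, fun x hx => ?_⟩
    show autFun η (f₀ (g * x * g⁻¹)) = h * autFun η (f₀ x) * h⁻¹
    rw [← hespec g hg x hx, ← eh ⟨autFun η (f₀ x), autFun_mem η (hmem x hx)⟩,
      ← autFun_apply (η * e ⟨g, hg⟩ * η⁻¹) ⟨_, autFun_mem η (hmem x hx)⟩,
      ← autFun_mul η _ (hmem x hx), ← autFun_mul _ η (hmem x hx), inv_mul_cancel_right]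
  obtain ⟨f, hf, hag⟩ := receptive_extend hrec hf₁ hi₁
  exact ⟨η, hη, f, hf.mono hle, hag⟩

/-- The normalizer of `R` in `N_S(A)` is larger than `R`. -/
theorem lt_norm_norm [Finite S] [Fact p.Prime] (hS : IsPGroup p S) {A R : Subgroup Ω}
    (hR : R ≤ normalizerIn S A) (hne : R ≠ normalizerIn S A) :
    Nat.card R < Nat.card ↥(normalizerIn S A ⊓ Subgroup.normalizer (R : Set Ω)) := by
  haveI : Finite ↥(normalizerIn S A ⊓ Subgroup.normalizer (R : Set Ω)) :=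
    finite_of_le (inf_le_left.trans inf_le_left)
  have h := lt_inf_normalizer hS (lt_of_le_of_ne hR hne) inf_le_left
  exact lt_of_le_of_ne (Subgroup.card_le_of_le h.le) fun e =>
    h.ne (Subgroup.eq_of_le_of_card_ge h.le e.ge)

/-- Both ends of a map on `R` move to a placed conjugate, with bigger domains. -/
theorem exists_detour [Finite S] [Fact p.Prime] (hS : IsPGroup p S) {A₁ R : Subgroup Ω}
    (hA₁ : A₁ ≤ R) (hR : R ≤ normalizerIn S A₁) {ψ : Ω → Ω} (hψ : IsMap F R ψ)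
    {Rs : Subgroup Ω} [Finite Rs] (hRRs : F.IsConj R Rs) (hfa : F.IsFullyAutomized p Rs)
    (hrec : F.IsReceptive Rs) :
    ∃ (As : Subgroup Ω) (hAs : As ≤ Rs) (ρ₁ ρ₂ : Ω → Ω), Placed F p Rs As hAs ∧
      IsMap F (normalizerIn S A₁ ⊓ Subgroup.normalizer (R : Set Ω)) ρ₁ ∧
      IsMap F (normalizerIn S (img A₁ ψ) ⊓ Subgroup.normalizer ((img R ψ : Subgroup Ω) : Set Ω)) ρ₂ ∧
      img A₁ ρ₁ = As ∧ img (img A₁ ψ) ρ₂ = As ∧ img R ρ₁ = Rs ∧ img (img R ψ) ρ₂ = Rs ∧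
      ∃ ν ∈ stabAut F Rs As As hAs hAs, ∀ x ∈ R, ρ₂ (ψ x) = autFun ν (ρ₁ x) := by
  haveI := finite_of_le (hψ.le)
  obtain ⟨c₀, hc₀, hc₀i⟩ := isConj_iff.mp hRRs
  obtain ⟨c, hc, hci, hpos⟩ := exists_sylow_position hA₁ hA₁ hc₀ hc₀i hfa
  have hAs : img A₁ c ≤ Rs := hci ▸ img_mono hA₁ c
  have hpl : Placed F p Rs (img A₁ c) hAs := fun U hU hUle => by
    obtain ⟨η, hη, h⟩ := hpos hAs hAs U hU hUle
    exact ⟨η, hη, fun u hu => mem_autInducedBy.mpr (h u hu)⟩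
  haveI : Finite (img A₁ c) := finite_of_le (hAs.trans hfa.1)
  set M₁ := normalizerIn S A₁ ⊓ Subgroup.normalizer (R : Set Ω)
  have hM₁R : M₁ ≤ normalizerIn S R := fun x hx => ⟨hx.1.1, hx.2⟩
  have hRM₁ : R ≤ M₁ := le_inf hR Subgroup.le_normalizer
  obtain ⟨η, hη, f, hf, hfe⟩ := exists_corrected_on hS hAs hrec hpl hA₁ hM₁R
    (fun x hx => hx.1.2) hc hci rfl
  have hfR : IsMap F R f := hf.mono hRM₁
  have hfi : img R f = Rs := by
    refine Subgroup.eq_of_le_of_card_ge (IsMap.img_le_iff.mpr fun x hx => ?_) ?_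
    · rw [hfe x hx]; exact autFun_mem η (hci ▸ IsMap.apply_mem_img hx)
    · rw [hfR.card_img, ← hci, hc.card_img]
  have hfA : img A₁ f = img A₁ c := by
    refine Subgroup.eq_of_le_of_card_ge (IsMap.img_le_iff.mpr fun x hx => ?_) ?_
    · rw [hfe x (hA₁ hx)]; exact hη.2.1 _ (IsMap.apply_mem_img hx)
    · rw [(hfR.mono hA₁).card_img, (hc.mono hA₁).card_img]
  -- the other end
  set R₂ := img R ψ
  set A₂ := img A₁ ψ
  have hA₂ : A₂ ≤ R₂ := img_mono hA₁ ψ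
  haveI := finite_of_le (hψ.img_le : R₂ ≤ S)
  obtain ⟨ψ', hψ', hψ'i, hψ'l, -⟩ := hψ.exists_inv
  have hmem : ∀ y ∈ R₂, ψ' y ∈ R := fun y hy => hψ'i ▸ IsMap.apply_mem_img hy
  have hcd : IsMap F R₂ (f ∘ ψ') := hψ'.comp hfR hmem
  have hcdi : img R₂ (f ∘ ψ') = Rs := by
    refine Subgroup.eq_of_le_of_card_ge (IsMap.img_le_iff.mpr fun y hy =>
      hfi ▸ IsMap.apply_mem_img (hmem y hy)) ?_
    rw [hcd.card_img, hψ.card_img, ← hfi, hfR.card_img]
  have hcdA : img A₂ (f ∘ ψ') = img A₁ c := by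
    refine Subgroup.eq_of_le_of_card_ge (IsMap.img_le_iff.mpr fun y hy => ?_) ?_
    · obtain ⟨x, hx, rfl⟩ := (hψ.mono hA₁).mem_img.mp hy
      show f (ψ' (ψ x)) ∈ img A₁ c
      rw [hψ'l x (hA₁ hx), ← hfA]
      exact IsMap.apply_mem_img hx
    · rw [(hcd.mono hA₂).card_img, (hψ.mono hA₁).card_img, ← hfA, (hfR.mono hA₁).card_img]
  set M₂ := normalizerIn S A₂ ⊓ Subgroup.normalizer (R₂ : Set Ω)
  have hM₂R : M₂ ≤ normalizerIn S R₂ := fun x hx => ⟨hx.1.1, hx.2⟩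
  have hR₂M : R₂ ≤ M₂ := by
    refine le_inf (IsMap.img_le_iff.mpr fun x hx => ?_) Subgroup.le_normalizer
    exact hψ.mem_normalizerIn hA₁ hx (hR hx).2
  obtain ⟨θ, hθ, g, hg, hge⟩ := exists_corrected_on hS hAs hrec hpl hA₂ hM₂R
    (fun x hx => hx.1.2) hcd hcdi hcdA
  have hgR : IsMap F R₂ g := hg.mono hR₂M
  refine ⟨img A₁ c, hAs, f, g, hpl, hf, hg, hfA, ?_, hfi, ?_, θ, hθ, fun x hx => ?_⟩
  · refine Subgroup.eq_of_le_of_card_ge (IsMap.img_le_iff.mpr fun y hy => ?_) ?_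
    · rw [hge y (hA₂ hy)]
      exact hθ.2.1 _ (hcdA ▸ IsMap.apply_mem_img hy)
    · rw [(hgR.mono hA₂).card_img, ← (hcd.mono hA₂).card_img, hcdA]
  · refine Subgroup.eq_of_le_of_card_ge (IsMap.img_le_iff.mpr fun y hy => ?_) ?_
    · rw [hge y hy]
      exact autFun_mem θ (hcdi ▸ IsMap.apply_mem_img hy)
    · rw [hgR.card_img, ← hcd.card_img, hcdi]
  · rw [hge _ (IsMap.apply_mem_img hx)]
    show autFun θ (f (ψ' (ψ x))) = _
    rw [hψ'l x hx]

/-- A map between terminal members defined on a larger subgroup gives a full map. -/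
theorem full_of_edge [Finite S] [Fact p.Prime] (hS : IsPGroup p S) {n : ℕ}
    (hbig : GoodAbove F p n) (k : ℕ) :
    ∀ (A₁ R : Subgroup Ω) (ψ : Ω → Ω), Nat.card S - Nat.card R = k → Nat.card A₁ = n →
      A₁ < R → R ≤ normalizerIn S A₁ → IsMap F R ψ → Terminal F A₁ → Terminal F (img A₁ ψ) →
      Full F A₁ (img A₁ ψ) := by
  induction k using Nat.strong_induction_on with
  | _ k ih =>
  intro A₁ R ψ hk hn hlt hR hψ ht₁ ht₂
  by_cases h1 : R = normalizerIn S A₁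
  · exact ⟨ψ, h1 ▸ hψ, rfl⟩
  set A₂ := img A₁ ψ
  set R₂ := img R ψ
  have hA₁S : A₁ ≤ S := hlt.le.trans hψ.le
  have hψA : IsMap F A₁ ψ := hψ.mono hlt.le
  have hA₂S : A₂ ≤ S := hψA.img_le
  have hR₂ : R₂ ≤ normalizerIn S A₂ :=
    IsMap.img_le_iff.mpr fun x hx => hψ.mem_normalizerIn hlt.le hx (hR hx).2
  obtain ⟨ψ', hψ', hψ'i, hψ'l, -⟩ := hψ.exists_inv
  have hback : img A₂ ψ' = A₁ := by
    rw [← img_comp hψA (hψ'.mono (img_mono hlt.le ψ))]
    exact (img_congr fun x hx => hψ'l x (hlt.le hx)).trans (img_id A₁)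
  haveI : Finite (normalizerIn S A₁) := finite_of_le inf_le_left
  haveI : Finite (normalizerIn S A₂) := finite_of_le inf_le_left
  have hRlt : Nat.card R < Nat.card (normalizerIn S A₁) :=
    lt_of_le_of_ne (Subgroup.card_le_of_le hR) fun e => h1 (Subgroup.eq_of_le_of_card_ge hR e.ge)
  by_cases h2 : R₂ = normalizerIn S A₂
  · exfalso
    have h := ht₂ A₁ ⟨ψ', h2 ▸ hψ', hback⟩
    rw [← h2, hψ.card_img] at h
    omega
  haveI := finite_of_le hψ.le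
  obtain ⟨Rs, hRRs, hfa, hrec⟩ := hbig R hψ.le (hn ▸ lt_of_le_of_ne (Subgroup.card_le_of_le hlt.le)
    fun e => hlt.ne (Subgroup.eq_of_le_of_card_ge hlt.le e.ge))
  haveI := finite_of_le hfa.1
  obtain ⟨As, hAs, ρ₁, ρ₂, -, hρ₁, hρ₂, hρ₁A, hρ₂A, -, -, -⟩ :=
    exists_detour hS hlt.le hR hψ hRRs hfa hrec
  obtain ⟨A₃, ⟨h, hh, hhi⟩, ht₃⟩ := exists_terminal (F := F) (hAs.trans hfa.1)
  have hbig₁ := lt_norm_norm hS hR h1
  have hbig₂ := lt_norm_norm hS hR₂ h2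
  rw [hψ.card_img] at hbig₂
  have step : ∀ (B : Subgroup Ω) (ρ : Ω → Ω) (T : Subgroup Ω), Nat.card B = n →
      B < T → T ≤ normalizerIn S B → IsMap F T ρ → img B ρ = As → Terminal F B →
      Nat.card R < Nat.card T → Full F B A₃ := by
    intro B ρ T hB hBT hT hρ hρB htB hcard
    have hmem : ∀ x ∈ T, ρ x ∈ normalizerIn S As := fun x hx => by
      rw [← hρB]; exact hρ.mem_normalizerIn hBT.le hx (hT hx).2
    have hc : IsMap F T (h ∘ ρ) := hρ.comp hh hmem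
    have he : img B (h ∘ ρ) = A₃ := by
      rw [img_comp (hρ.mono hBT.le) (hρB.symm ▸ hh.mono (le_normalizerIn (hAs.trans hfa.1))), hρB, hhi]
    have hTS := Subgroup.card_le_of_le hρ.le
    have := ih (Nat.card S - Nat.card T) (by omega) B T (h ∘ ρ) rfl hB hBT hT hc htB (he ▸ ht₃)
    rwa [he] at this
  have f₁ : Full F A₁ A₃ := step A₁ ρ₁ _ hn
    (lt_of_lt_of_le hlt (le_inf hR Subgroup.le_normalizer)) inf_le_left hρ₁ hρ₁A ht₁ hbig₁
  have hA₂R₂ : A₂ < R₂ := lt_of_le_of_ne (img_mono hlt.le ψ) fun e => hlt.ne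
    (Subgroup.eq_of_le_of_card_ge hlt.le (by rw [← hψ.card_img, ← hψA.card_img]; exact (congrArg (fun X : Subgroup Ω => Nat.card X) e).ge))
  have f₂ : Full F A₂ A₃ := step A₂ ρ₂ _ (hψA.card_img.trans hn)
    (lt_of_lt_of_le hA₂R₂ (le_inf hR₂ Subgroup.le_normalizer)) inf_le_left hρ₂ hρ₂A ht₂ hbig₂
  exact full_trans hA₁S f₁ (full_symm hA₂S f₂ (ht₂ _ f₂))

/-- The connection property of a map. -/
def Conn (F : FusionSystem S) (P₀ T : Subgroup Ω) (f : Ω → Ω) : Prop :=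
  ∀ Q, Q ≤ T → F.IsConj P₀ Q → ∀ A₁ A₂, Full F Q A₁ → Terminal F A₁ → Full F (img Q f) A₂ →
    Terminal F A₂ → Full F A₁ A₂

/-- Any two terminal members above the two ends of a map on a larger subgroup are joined. -/
theorem conn_step [Finite S] [Fact p.Prime] (hS : IsPGroup p S) {P₀ : Subgroup Ω}
    (hbig : GoodAbove F p (Nat.card P₀)) {Q T : Subgroup Ω} {f : Ω → Ω} (hf : IsMap F T f)
    (hlt : Q < T) (hQ : F.IsConj P₀ Q) {A₁ A₂ : Subgroup Ω} (h₁ : Full F Q A₁)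
    (ht₁ : Terminal F A₁) (h₂ : Full F (img Q f) A₂) (ht₂ : Terminal F A₂) : Full F A₁ A₂ := by
  have hQS : Q ≤ S := (isConj_le hQ).2
  set R := T ⊓ Subgroup.normalizer (Q : Set Ω)
  have hQR : Q < R := lt_inf_normalizer hS hlt hf.le
  have hRN : R ≤ normalizerIn S Q := fun x hx => ⟨hf.le hx.1, hx.2⟩
  obtain ⟨g₁, hg₁, hg₁i⟩ := h₁
  obtain ⟨g₂, hg₂, hg₂i⟩ := h₂
  have hg₁R : IsMap F R g₁ := hg₁.mono hRN
  obtain ⟨g', hg', hg'i, hg'l, -⟩ := hg₁R.exists_inv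
  have hfR : IsMap F R f := hf.mono inf_le_left
  have hfmem : ∀ x ∈ R, f x ∈ normalizerIn S (img Q f) := fun x hx =>
    hfR.mem_normalizerIn hQR.le hx (hRN hx).2
  have hg'mem : ∀ y ∈ img R g₁, g' y ∈ R := fun y hy => hg'i ▸ IsMap.apply_mem_img hy
  have hψ : IsMap F (img R g₁) (g₂ ∘ f ∘ g') :=
    (hg'.comp hfR hg'mem).comp hg₂ fun y hy => hfmem _ (hg'mem y hy)
  have hA : img Q g₁ = A₁ := hg₁i
  have hψA : img A₁ (g₂ ∘ f ∘ g') = A₂ := by
    rw [← hA, ← img_comp (hg₁R.mono hQR.le) (hψ.mono (img_mono hQR.le g₁)), ← hg₂i,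
      ← img_comp (hfR.mono hQR.le) (hg₂.mono (le_normalizerIn ((hfR.mono hQR.le).img_le)))]
    exact img_congr fun x hx => by
      show g₂ (f (g' (g₁ x))) = g₂ (f x)
      rw [hg'l x (hQR.le hx)]
  have hcard : Nat.card A₁ = Nat.card P₀ := by
    rw [← hA, (hg₁R.mono hQR.le).card_img, isConj_card hQ]
  have hA₁R : A₁ < img R g₁ := by
    haveI := finite_of_le hg₁R.img_le
    haveI := finite_of_le hg₁R.le
    refine lt_of_le_of_ne (hA ▸ img_mono hQR.le g₁) fun e => hQR.ne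
      (Subgroup.eq_of_le_of_card_ge hQR.le ?_)
    rw [← (hg₁R.mono hQR.le).card_img, hA, e, hg₁R.card_img]
  have := full_of_edge hS hbig _ A₁ (img R g₁) (g₂ ∘ f ∘ g') rfl hcard hA₁R
    (IsMap.img_le_iff.mpr fun x hx => full_mem hQS hg₁ hg₁i x (hRN hx)) hψ ht₁ (hψA.symm ▸ ht₂)
  rwa [hψA] at this

theorem isMapClass_conn [Finite S] [Fact p.Prime] (hS : IsPGroup p S) {P₀ : Subgroup Ω}
    (hlt : Nat.card P₀ < Nat.card S) (hbig : GoodAbove F p (Nat.card P₀)) :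
    IsMapClass F (Conn F P₀) where
  conj P g hP hg Q hQP hQ A₁ A₂ h₁ ht₁ h₂ ht₂ := by
    have hQS : Q < S := lt_of_le_of_ne (hQP.trans hP) fun e => by
      have := isConj_card hQ
      subst e
      omega
    exact conn_step hS hbig (isMap_conj le_rfl hg) hQS hQ h₁ ht₁ h₂ ht₂
  congr P f f' _ e h Q hQP hQ A₁ A₂ h₁ ht₁ h₂ ht₂ := by
    rw [img_congr fun x hx => e x (hQP hx)] at h₂
    exact h Q hQP hQ A₁ A₂ h₁ ht₁ h₂ ht₂
  mono P R f _ hR h Q hQR := h Q (hQR.trans hR)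
  comp P T f g hf hg hfT h h' Q hQP hQ A₁ A₂ h₁ ht₁ h₂ ht₂ := by
    have hfQ : IsMap F Q f := hf.mono hQP
    have hle : img Q f ≤ T := IsMap.img_le_iff.mpr fun x hx => hfT x (hQP hx)
    rw [img_comp hfQ (hg.mono hle)] at h₂
    have hQ' : F.IsConj P₀ (img Q f) := isConj_trans hQ (isConj_iff.mpr ⟨f, hfQ, rfl⟩)
    obtain ⟨A, hA, htA⟩ := exists_terminal (F := F) hfQ.img_le
    exact full_trans (isConj_le (full_isConj hfQ.le h₁)).2 (h Q hQP hQ A₁ A h₁ ht₁ hA htA)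
      (h' _ hle hQ' A A₂ hA htA h₂ ht₂)
  inv P f g hf hg hl h Q hQP hQ A₁ A₂ h₁ ht₁ h₂ ht₂ := by
    have hgQ : IsMap F Q g := hg.mono hQP
    have hle : img Q g ≤ P := IsMap.img_le_iff.mpr fun y hy => by
      obtain ⟨x, hx, rfl⟩ := hf.mem_img.mp (hQP hy)
      rwa [hl x hx]
    have hback : img (img Q g) f = Q := by
      rw [← img_comp hgQ (hf.mono hle)]
      refine (img_congr fun y hy => ?_).trans (img_id Q)
      obtain ⟨x, hx, rfl⟩ := hf.mem_img.mp (hQP hy)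
      show f (g (f x)) = f x
      rw [hl x hx]
    have hQ' : F.IsConj P₀ (img Q g) := isConj_trans hQ (isConj_iff.mpr ⟨g, hgQ, rfl⟩)
    have := h _ hle hQ' A₂ A₁ h₂ ht₂ (hback.symm ▸ h₁) ht₁
    exact full_symm (isConj_le (full_isConj hgQ.img_le h₂)).2 this (ht₂ _ this)

/-- Every member maps with its normalizer to every terminal member. -/
theorem full_to_terminal [Finite S] [Fact p.Prime] (hS : IsPGroup p S) {ℋ : Set (Subgroup Ω)}
    (hℋconj : ∀ P ∈ ℋ, ∀ Q, F.IsConj P Q → Q ∈ ℋ)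
    (hgen : ∀ E : FusionSystem S, (∀ P ∈ ℋ, F.Hom P ⊆ E.Hom P) → F ≤ E) {P₀ : Subgroup Ω}
    (hP₀ : P₀ ∉ ℋ) (hlt : Nat.card P₀ < Nat.card S) (hbig : GoodAbove F p (Nat.card P₀))
    {Q A : Subgroup Ω} (hQ : F.IsConj P₀ Q) (hA : F.IsConj P₀ A) (ht : Terminal F A) :
    Full F Q A := by
  obtain ⟨f, hf, hfi⟩ := isConj_iff.mp (isConj_trans (isConj_symm hQ) hA)
  have hall := class_of_generates (isMapClass_conn hS hlt hbig) hgen (fun T g hT hg Q' hQT hQ' A₁ A₂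
      h₁ ht₁ h₂ ht₂ => conn_step hS hbig hg (lt_of_le_of_ne hQT fun e =>
        hP₀ (hℋconj T hT P₀ (isConj_symm (e ▸ hQ')))) hQ' h₁ ht₁ h₂ ht₂) hf
  obtain ⟨A₁, h₁, ht₁⟩ := exists_terminal (F := F) hf.le
  exact full_trans hf.le h₁ (hall Q le_rfl hQ A₁ A h₁ ht₁ (hfi.symm ▸ full_refl) ht)

end Cfsg.Lib.Fusion.Criterion
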